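import Cfsg.Agent.H20.Magic.Setting

/-!
# The corner of the group algebra over an invariant character

`H20.Magic.Setting.Dl` maps the twisted group algebra of `H ∩ stab e` onto the centraliser of the
Weyl system inside the corner of `ε`.
-/

set_option autoImplicit false
set_option linter.style.haveILetI false
set_option linter.unusedSectionVars false

open Cfsg MonoidAlgebra
open H12.Glauberman (mult)

namespace H20.Magic.Setting

universe u v

variable {M : Ideal AlgInt} [hMp : M.IsPrime]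
variable {G : Type u} [Group G] [Fintype G] {S : Type v} [Group S] [Fintype S]
variable {φ : S →* MulAut G} {C K L H : Subgroup G}
variable [K.Normal] [hLn : L.Normal] [Fintype L] [Fintype H] (hs : Setting M φ C K L H)
variable {θ : IrrCharacter L} {hθ : ∀ s, autA M (φ s) (eL M L θ) = eL M L θ}
variable [AbSec K L]

variable (M K) in
/-- The inertia group acting on the section. -/
noncomputable def stabHom (θ : IrrCharacter L) : stab M (eL M L θ) →* MulAut (Sec M K θ) :=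
  MonoidHom.mk' (fun g => secAut θ (MulAut.conj (g : G))
    (fun x => ⟨fun hx => mem_K1_conj θ g.2 hx, fun hx => by
      have h := mem_K1_conj θ ((stab M (eL M L θ)).inv_mem g.2) hx
      rw [MulAut.conj_apply] at h
      simpa [mul_assoc] using h⟩)
    (fun x => ⟨fun hx => hLn.conj_mem x hx _, fun hx => by
      have h := hLn.conj_mem _ hx (g : G)⁻¹
      rw [MulAut.conj_apply] at h
      simpa [mul_assoc] using h⟩)) fun g h => MulEquiv.ext fun v => by
    rw [MulAut.mul_apply, ← cls_rep v, secAut_cls, secAut_cls, secAut_cls]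
    congr 1
    simp [mul_assoc]

theorem stabHom_cls (g : stab M (eL M L θ)) {x : G} (hx : x ∈ K1 M K θ) :
    stabHom M K θ g (cls hx) = cls (mem_K1_conj θ g.2 hx) := rfl

theorem stabHom_L (g : stab M (eL M L θ)) (hg : (g : G) ∈ L) : stabHom M K θ g = 1 :=
  MulEquiv.ext fun v => by
    rw [MulAut.one_apply, ← cls_rep v, stabHom_cls, cls_eq]
    have h1 := hLn.conj_mem _ (L.inv_mem hg) (g : G)
    have h2 := hLn.conj_mem _ hg (rep v)
    have h3 := L.mul_mem (L.inv_mem h1) (L.inv_mem h2)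
    have h4 := hLn.conj_mem _ hg (g : G)
    have h5 : (g : G) * rep v * (g : G)⁻¹ = (g : G) * (rep v * (g : G)⁻¹ * (rep v)⁻¹) * rep v := by
      group
    rw [h5, mul_inv_rev, mul_assoc]
    simpa [mul_assoc] using hLn.conj_mem _
      (L.inv_mem (L.mul_mem hg (hLn.conj_mem _ (L.inv_mem hg) (rep v)))) (rep v)⁻¹

/-- An element supported in `L` commutes with whatever commutes with `L`. -/
theorem supp_L_comm {a b : GA M G} (hb : ∀ g, b.coeff g ≠ 0 → g ∈ L)
    (ha : ∀ l ∈ L, el M l * a = a * el M l) : b * a = a * b := by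
  rw [eq_sum_el b, Finset.sum_mul, Finset.mul_sum]
  refine Finset.sum_congr rfl fun g _ => ?_
  by_cases h : b.coeff g = 0
  · simp [h]
  · rw [smul_mul_assoc, mul_smul_comm, ha g (hb g h)]

variable (Y : Sys M φ θ (secHom hs θ hθ))

include hs in
theorem two_zero : (2 : k M) = 0 := two_eq_zero hs.modular

include hs in
theorem odd_secY : Odd (Nat.card (Sec M K θ)) := hs.odd_sec θ

theorem el_w_comm {l : G} (hl : l ∈ L) (v : Sec M K θ) :
    el M l * Y.W.w v = Y.W.w v * el M l := (Y.inU v).2.1 l hl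

theorem el_eps_comm {l : G} (hl : l ∈ L) : el M l * Y.W.eps = Y.W.eps * el M l := by
  rw [Weyl.eps, Finset.mul_sum, Finset.sum_mul]
  exact Finset.sum_congr rfl fun r _ => el_w_comm hs Y hl r

theorem el_cw_comm {l : G} (hl : l ∈ L) (v : Sec M K θ) :
    el M l * Y.W.cw v = Y.W.cw v * el M l := by
  rw [Weyl.cw, ← mul_assoc, el_w_comm hs Y hl, mul_assoc, el_eps_comm hs Y hl, mul_assoc]

theorem el_X_comm {l : G} (hl : l ∈ L) (a : Sec M K θ ≃* Sec M K θ) :
    el M l * Y.W.X a = Y.W.X a * el M l := by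
  rw [Weyl.X, Finset.mul_sum, Finset.sum_mul]
  refine Finset.sum_congr rfl fun x _ => ?_
  rw [← mul_assoc, el_cw_comm hs Y hl, mul_assoc, el_cw_comm hs Y hl, mul_assoc]

theorem eps_mul_eL : Y.W.eps * eL M L θ = Y.W.eps := by
  rw [← Y.e_eq, Y.W.eps_mul_e]

theorem eL_mul_eps : eL M L θ * Y.W.eps = Y.W.eps := by
  rw [← Y.e_eq, Y.W.e_mul_eps]

include hs hθ in
theorem conj_w_C {c : G} (hc : c ∈ C) (hcT : c ∈ stab M (eL M L θ)) :
    Y.W.Pres (stabHom M K θ ⟨c, hcT⟩) ∧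
      ∀ v, autA M (MulAut.conj c) (Y.W.w v) = Y.W.w (stabHom M K θ ⟨c, hcT⟩ v) := by
  refine map_w_of_commute ((autA M).comp φ) (secHom hs θ hθ) (two_zero hs) Y.W
    (hs.coprime_sec θ) Y.equiv (secHom_free hs θ hθ) _ _ ?_ ?_ ?_ ?_
  · rw [Y.e_eq, autA_conj]; exact mem_stab_iff_conj.1 hcT
  · intro v
    refine eq_smul_w θ hs.modular hs.odd Y.W Y.e_eq Y.inU ?_
    refine ((Y.inU v).map (MulAut.conj c) (fun x => ?_) ?_).congr ?_
    · exact ⟨fun hx => hLn.conj_mem x hx c, fun hx => by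
        have h := hLn.conj_mem _ hx c⁻¹
        rw [MulAut.conj_apply] at h
        simpa [mul_assoc] using h⟩
    · rw [autA_conj]; exact mem_stab_iff_conj.1 hcT
    · conv in (stabHom M K θ ⟨c, hcT⟩ v) => rw [← cls_rep v, stabHom_cls]
      exact rep_inv_mul (mem_K1_conj θ hcT (rep_mem v))
  · intro s a
    show autA M (φ s) (autA M (MulAut.conj c) a) = autA M (MulAut.conj c) (autA M (φ s) a)
    rw [← AlgEquiv.mul_apply, ← AlgEquiv.mul_apply, ← map_mul, ← map_mul]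
    congr 2
    refine MulEquiv.ext fun x => ?_
    simp [MulAut.mul_apply, (hs.mem_C c).1 hc s]
  · intro s v
    rw [← cls_rep v, stabHom_cls, secHom_cls, secHom_cls, stabHom_cls]
    congr 1
    simp [(hs.mem_C c).1 hc s]

include hs hθ in
theorem conj_w {h : G} (hh : h ∈ H) (hT : h ∈ stab M (eL M L θ)) :
    Y.W.Pres (stabHom M K θ ⟨h, hT⟩) ∧
      ∀ v, autA M (MulAut.conj h) (Y.W.w v) = Y.W.w (stabHom M K θ ⟨h, hT⟩ v) := by
  obtain ⟨l, hl, c, hc, rfl⟩ := hs.H_decomp hh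
  have hlT := el_mem_stab_eL (M := M) θ hl
  have hcT : c ∈ stab M (eL M L θ) := by
    simpa using (stab M (eL M L θ)).mul_mem ((stab M _).inv_mem hlT) hT
  obtain ⟨h1, h2⟩ := conj_w_C hs Y hc hcT
  have hb : stabHom M K θ ⟨l * c, hT⟩ = stabHom M K θ ⟨c, hcT⟩ := by
    rw [show (⟨l * c, hT⟩ : stab M (eL M L θ)) = ⟨l, hlT⟩ * ⟨c, hcT⟩ from rfl, map_mul,
      stabHom_L ⟨l, hlT⟩ hl, one_mul]
  refine ⟨hb ▸ h1, fun v => ?_⟩
  rw [map_mul, map_mul, AlgEquiv.mul_apply, h2, hb, autA_conj, el_w_comm hs Y hl, mul_assoc,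
    el_mul_inv, mul_one]

include hs hθ in
theorem el_eps_H {h : G} (hh : h ∈ H) (hT : h ∈ stab M (eL M L θ)) :
    el M h * Y.W.eps = Y.W.eps * el M h := by
  obtain ⟨h1, h2⟩ := conj_w hs Y hh hT
  have h3 := Y.W.map_eps (autA M (MulAut.conj h)) h1 h2
  rw [autA_conj] at h3
  conv_rhs => rw [← h3]
  rw [mul_assoc, el_inv_mul, mul_one]

include hs hθ in
theorem el_cw_H {h : G} (hh : h ∈ H) (hT : h ∈ stab M (eL M L θ)) (v : Sec M K θ) :
    el M h * Y.W.cw v = Y.W.cw (stabHom M K θ ⟨h, hT⟩ v) * el M h := by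
  obtain ⟨h1, h2⟩ := conj_w hs Y hh hT
  have h3 := Y.W.map_cw (autA M (MulAut.conj h)) h1 h2 v
  rw [autA_conj] at h3
  rw [← h3, mul_assoc _ (el M h⁻¹), el_inv_mul, mul_one]

include hs hθ in
theorem el_X_H {h : G} (hh : h ∈ H) (hT : h ∈ stab M (eL M L θ))
    (a : Sec M K θ ≃* Sec M K θ) :
    el M h * Y.W.X a =
      Y.W.X (stabHom M K θ ⟨h, hT⟩ * a * (stabHom M K θ ⟨h, hT⟩)⁻¹) * el M h := by
  obtain ⟨h1, h2⟩ := conj_w hs Y hh hT
  have h3 := Y.W.map_X (autA M (MulAut.conj h)) h1 h2 a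
  rw [autA_conj] at h3
  rw [← h3, mul_assoc _ (el M h⁻¹), el_inv_mul, mul_one]

/-- The image of a group element in the centraliser of the system. -/
noncomputable def Dg (h : G) : GA M G :=
  open scoped Classical in
  if hh : h ∈ H ∧ h ∈ stab M (eL M L θ) then
    Y.W.X (stabHom M K θ ⟨h, hh.2⟩)⁻¹ * el M h else 0

theorem Dg_apply {h : G} (hh : h ∈ H) (hT : h ∈ stab M (eL M L θ)) :
    Dg hs Y h = Y.W.X (stabHom M K θ ⟨h, hT⟩)⁻¹ * el M h := by
  rw [Dg, dif_pos ⟨hh, hT⟩]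

include hs hθ in
theorem Dg_mul {g h : G} (hg : g ∈ H) (hgT : g ∈ stab M (eL M L θ)) (hh : h ∈ H)
    (hhT : h ∈ stab M (eL M L θ)) : Dg hs Y g * Dg hs Y h = Dg hs Y (g * h) := by
  rw [Dg_apply hs Y hg hgT, Dg_apply hs Y hh hhT,
    Dg_apply hs Y (H.mul_mem hg hh) ((stab M _).mul_mem hgT hhT)]
  have pg := (conj_w hs Y hg hgT).1
  have ph := (conj_w hs Y hh hhT).1
  have e := el_X_H hs Y hg hgT (stabHom M K θ ⟨h, hhT⟩)⁻¹
  have hb : stabHom M K θ ⟨g * h, (stab M _).mul_mem hgT hhT⟩ =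
      stabHom M K θ ⟨g, hgT⟩ * stabHom M K θ ⟨h, hhT⟩ := by
    rw [← map_mul]
    exact congrArg (stabHom M K θ) (Subtype.ext rfl)
  rw [hb]
  generalize stabHom M K θ ⟨g, hgT⟩ = bg at pg e ⊢
  generalize stabHom M K θ ⟨h, hhT⟩ = bh at ph e ⊢
  have hi : bg⁻¹ * (bg * bh⁻¹ * bg⁻¹) = (bg * bh)⁻¹ := by
    rw [mul_inv_rev, mul_assoc bg, inv_mul_cancel_left]
  calc Y.W.X bg⁻¹ * el M g * (Y.W.X bh⁻¹ * el M h)
      = Y.W.X bg⁻¹ * (el M g * Y.W.X bh⁻¹) * el M h := by simp only [mul_assoc]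
    _ = Y.W.X bg⁻¹ * Y.W.X (bg * bh⁻¹ * bg⁻¹) * (el M g * el M h) := by
        rw [e]; simp only [mul_assoc]
    _ = Y.W.X (bg⁻¹ * (bg * bh⁻¹ * bg⁻¹)) * el M (g * h) := by
        rw [Y.W.X_mul (two_zero hs) (odd_secY hs) pg.inv ((pg.mul ph.inv).mul pg.inv), el_mul]
    _ = _ := by rw [hi]

include hs hθ in
theorem Dg_L {l : G} (hl : l ∈ L) : Dg hs Y l = Y.W.eps * el M l := by
  rw [Dg_apply hs Y (hs.L_le_H hl) (el_mem_stab_eL θ hl), stabHom_L _ hl, inv_one,
    Y.W.X_one (two_zero hs) (odd_secY hs)]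

include hs hθ in
theorem Dg_one : Dg hs Y 1 = Y.W.eps := by
  rw [Dg_L hs Y L.one_mem, el_one, mul_one]

include hs hθ in
theorem eps_el {h : G} (hh : h ∈ H) (hT : h ∈ stab M (eL M L θ)) :
    Y.W.eps * el M h = Y.W.X (stabHom M K θ ⟨h, hT⟩) * Dg hs Y h := by
  have p := (conj_w hs Y hh hT).1
  rw [Dg_apply hs Y hh hT, ← mul_assoc, Y.W.X_mul (two_zero hs) (odd_secY hs) p p.inv,
    mul_inv_cancel, Y.W.X_one (two_zero hs) (odd_secY hs)]

include hs hθ in
theorem Dg_eps (h : G) : Dg hs Y h * Y.W.eps = Dg hs Y h := by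
  unfold Dg
  split_ifs with hh
  · rw [mul_assoc, el_eps_H hs Y hh.1 hh.2, ← mul_assoc,
      Y.W.X_mul_eps (two_zero hs) (odd_secY hs)]
  · rw [zero_mul]

include hs hθ in
theorem eps_Dg (h : G) : Y.W.eps * Dg hs Y h = Dg hs Y h := by
  unfold Dg
  split_ifs with hh
  · rw [← mul_assoc, Y.W.eps_mul_X (two_zero hs) (odd_secY hs)]
  · rw [mul_zero]

include hs hθ in
theorem cw_Dg (h : G) (v : Sec M K θ) : Y.W.cw v * Dg hs Y h = Dg hs Y h * Y.W.cw v := by
  unfold Dg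
  split_ifs with hh
  · obtain ⟨p, -⟩ := conj_w hs Y hh.1 hh.2
    rw [mul_assoc _ (el M h), el_cw_H hs Y hh.1 hh.2, ← mul_assoc, ← mul_assoc,
      Y.W.X_mul_cw (two_zero hs) (odd_secY hs) p.inv]
    congr 2
    rw [← MulAut.mul_apply, inv_mul_cancel, MulAut.one_apply]
  · rw [mul_zero, zero_mul]

/-- The linear extension of `Dg`. -/
noncomputable def Dl : GA M G →ₗ[k M] GA M G where
  toFun a := ∑ g : G, a.coeff g • Dg hs Y g
  map_add' a b := by simp [add_smul, Finset.sum_add_distrib]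
  map_smul' c a := by simp [Finset.smul_sum, smul_smul]

theorem Dl_apply (a : GA M G) : Dl hs Y a = ∑ g : G, a.coeff g • Dg hs Y g := rfl

theorem Dl_el (g : G) : Dl hs Y (el M g) = Dg hs Y g := by
  classical
  simp [Dl_apply, el, Finsupp.single_apply]

variable (M H) in
/-- Support in `H ∩ stab e`. -/
def Supp0 (θ : IrrCharacter L) (a : GA M G) : Prop :=
  ∀ g, a.coeff g ≠ 0 → g ∈ H ∧ g ∈ stab M (eL M L θ)

include hs hθ in
theorem Dl_mul {a b : GA M G} (ha : Supp0 M H θ a) (hb : Supp0 M H θ b) :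
    Dl hs Y (a * b) = Dl hs Y a * Dl hs Y b := by
  conv_lhs => rw [eq_sum_el a, eq_sum_el b, Finset.sum_mul_sum]
  rw [Dl_apply hs Y a, Dl_apply hs Y b, Finset.sum_mul_sum, map_sum]
  refine Finset.sum_congr rfl fun x _ => ?_
  rw [map_sum]
  refine Finset.sum_congr rfl fun y _ => ?_
  rw [smul_mul_smul_comm, smul_mul_smul_comm, map_smul, ← el_mul, Dl_el]
  by_cases hx : a.coeff x = 0
  · simp [hx]
  by_cases hy : b.coeff y = 0
  · simp [hy]
  rw [Dg_mul hs Y (ha x hx).1 (ha x hx).2 (hb y hy).1 (hb y hy).2]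

include hs hθ in
theorem Dl_eps (a : GA M G) : Dl hs Y a * Y.W.eps = Dl hs Y a := by
  rw [Dl_apply, Finset.sum_mul]
  exact Finset.sum_congr rfl fun g _ => by rw [smul_mul_assoc, Dg_eps]

include hs hθ in
theorem eps_Dl (a : GA M G) : Y.W.eps * Dl hs Y a = Dl hs Y a := by
  rw [Dl_apply, Finset.mul_sum]
  exact Finset.sum_congr rfl fun g _ => by rw [mul_smul_comm, eps_Dg]

include hs hθ in
theorem cw_Dl (a : GA M G) (v : Sec M K θ) : Y.W.cw v * Dl hs Y a = Dl hs Y a * Y.W.cw v := by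
  rw [Dl_apply, Finset.sum_mul, Finset.mul_sum]
  exact Finset.sum_congr rfl fun g _ => by rw [mul_smul_comm, smul_mul_assoc, cw_Dg]

include hs hθ in
theorem w_Dl (a : GA M G) (v : Sec M K θ) : Y.W.w v * Dl hs Y a = Dl hs Y a * Y.W.w v := by
  calc Y.W.w v * Dl hs Y a = Y.W.w v * (Y.W.eps * Dl hs Y a) := by rw [eps_Dl]
    _ = Y.W.cw v * Dl hs Y a := by rw [Weyl.cw, mul_assoc]
    _ = Dl hs Y a * (Y.W.eps * Y.W.w v) := by rw [cw_Dl, Weyl.cw, Y.W.eps_comm]
    _ = Dl hs Y a * Y.W.w v := by rw [← mul_assoc, Dl_eps]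

include hs hθ in
theorem X_Dl (a : GA M G) (b : Sec M K θ ≃* Sec M K θ) :
    Y.W.X b * Dl hs Y a = Dl hs Y a * Y.W.X b := by
  rw [Weyl.X, Finset.sum_mul, Finset.mul_sum]
  refine Finset.sum_congr rfl fun x _ => ?_
  rw [mul_assoc, cw_Dl, ← mul_assoc, cw_Dl, mul_assoc]

include hs hθ in
theorem Dl_supp_L {a : GA M G} (ha : ∀ g, a.coeff g ≠ 0 → g ∈ L) :
    Dl hs Y a = Y.W.eps * a := by
  conv_rhs => rw [eq_sum_el a]
  rw [Dl_apply, Finset.mul_sum]
  refine Finset.sum_congr rfl fun g _ => ?_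
  by_cases hg : a.coeff g = 0
  · simp [hg]
  · rw [Dg_L hs Y (ha g hg), mul_smul_comm]

include hs hθ in
theorem Dl_eL : Dl hs Y (eL M L θ) = Y.W.eps := by
  rw [Dl_supp_L hs Y (a := eL M L θ) (fun g hg => mem_of_coeff_incl_ne_zero hg), eps_mul_eL]

include hs hθ in
/-- An element of `K ∩ stab e` in the corner is a unit of the system times an element of `k L`. -/
theorem K1_decomp {y : G} (hy : y ∈ K1 M K θ) :
    ∃ b : GA M G, (∀ g, b.coeff g ≠ 0 → g ∈ L) ∧
      el M y * eL M L θ = Y.W.w (cls hy) * b := by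
  classical
  refine ⟨Y.W.w (cls hy)⁻¹ * (el M y * eL M L θ), fun g hg => ?_, ?_⟩
  · obtain ⟨x, hx, hxg⟩ := exists_of_coeff_mul_ne_zero hg
    have h1 := (Y.inU (cls hy)⁻¹).1 x hx
    rw [coeff_el_mul] at hxg
    have h2 : y⁻¹ * (x⁻¹ * g) ∈ L := mem_of_coeff_incl_ne_zero hxg
    have h3 : rep (cls hy)⁻¹ * y ∈ L := by
      have e1 := L.mul_mem (rep_one (M := M) (K := K) θ) (rep_mul (cls hy)⁻¹ (cls hy))
      rw [inv_mul_cancel, ← mul_assoc, mul_inv_cancel, one_mul] at e1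
      have e2 := L.mul_mem e1 (rep_inv_mul hy)
      simpa [mul_assoc] using e2
    have h4 : y⁻¹ * ((rep (cls hy)⁻¹)⁻¹ * x) * y ∈ L := by simpa using hLn.conj_mem _ h1 y⁻¹
    have h5 := L.mul_mem h3 (L.mul_mem h4 h2)
    have e : rep (cls hy)⁻¹ * y *
        (y⁻¹ * ((rep (cls hy)⁻¹)⁻¹ * x) * y * (y⁻¹ * (x⁻¹ * g))) = g := by group
    rwa [e] at h5
  · have hyT := (Subgroup.mem_inf.1 hy).2
    rw [← mul_assoc, Y.W.mul_w, mul_inv_cancel, Y.W.w_one, Y.W.σ_inv_right,
      Y.W.σ_self (two_zero hs), one_smul, Y.e_eq, ← mul_assoc,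
      show eL M L θ * el M y = el M y * eL M L θ from Eq.symm hyT, mul_assoc,
      eL_idem hs.modular hs.odd]

include hs hθ in
/-- What commutes with the system, with `L` and with `C` in the corner commutes with the inertia
group. -/
theorem comm_stab {a : GA M G} (hae : a * eL M L θ = a) (hea : eL M L θ * a = a)
    (hw : ∀ v, Y.W.w v * a = a * Y.W.w v) (hl : ∀ l ∈ L, el M l * a = a * el M l)
    (hc : ∀ c ∈ C, c ∈ stab M (eL M L θ) → el M c * a = a * el M c) :
    ∀ g ∈ stab M (eL M L θ), el M g * a = a * el M g := by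
  intro g hg
  obtain ⟨y, hy, c, hc', rfl⟩ := hs.stab_decomp θ hθ hg
  obtain ⟨hcC, hcT⟩ := Subgroup.mem_inf.1 hc'
  have hyT := (Subgroup.mem_inf.1 hy).2
  obtain ⟨b, hb, hbe⟩ := K1_decomp hs Y hy
  have hy' : el M y * a = a * el M y := by
    calc el M y * a = el M y * eL M L θ * a := by rw [mul_assoc, hea]
      _ = Y.W.w (cls hy) * a * b := by rw [hbe, mul_assoc, supp_L_comm hb hl, ← mul_assoc]
      _ = a * (Y.W.w (cls hy) * b) := by rw [hw, mul_assoc]
      _ = a * (eL M L θ * el M y) := by rw [← hbe, show el M y * eL M L θ = _ from hyT]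
      _ = a * el M y := by rw [← mul_assoc, hae]
  rw [el_mul, mul_assoc, hc c hcC hcT, ← mul_assoc, hy', mul_assoc]

include hs hθ in
theorem eps_comm_stab : ∀ g ∈ stab M (eL M L θ), el M g * Y.W.eps = Y.W.eps * el M g :=
  comm_stab hs Y (eps_mul_eL hs Y) (eL_mul_eps hs Y) (fun v => (Y.W.eps_comm v).symm)
    (fun _ hl => el_eps_comm hs Y hl) fun _ hc hcT => el_eps_H hs Y (hs.C_le_H hc) hcT

include hs in
/-- An idempotent centralised by the inertia group is trivial or full in every block of the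
corner. -/
theorem dichotomy (χ : IrrCharacter G) {a : GA M G} (hidem : a * a = a)
    (hae : a * eL M L θ = a) (hea : eL M L θ * a = a)
    (hcomm : ∀ g ∈ stab M (eL M L θ), el M g * a = a * el M g) :
    cid M χ * a = 0 ∨ cid M χ * a = cid M χ * eL M L θ := by
  by_contra hcon
  rw [not_or] at hcon
  have hz : cid M χ * a * cid M χ = cid M χ * a := by
    rw [mul_assoc, ← cid_comm, ← mul_assoc, cid_idem hs.modular hs.odd]
  have hy : cid M χ * (cid M χ * (eL M L θ - a)) = cid M χ * (eL M L θ - a) := by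
    rw [← mul_assoc, cid_idem hs.modular hs.odd]
  have hy0 : cid M χ * (eL M L θ - a) ≠ 0 := by
    rw [mul_sub, sub_ne_zero]; exact fun h => hcon.2 h.symm
  obtain ⟨g, hg⟩ := exists_link hs.modular hs.odd hz hy hcon.1 hy0
  apply hg
  have hea' : eL M L θ * (eL M L θ - a) = eL M L θ - a := by
    rw [mul_sub, eL_idem hs.modular hs.odd, hea]
  have he : cid M χ * a * el M g * (cid M χ * (eL M L θ - a)) =
      cid M χ * a * (eL M L θ * el M g * eL M L θ) * (cid M χ * (eL M L θ - a)) := by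
    have h1 : cid M χ * (eL M L θ - a) = eL M L θ * (cid M χ * (eL M L θ - a)) := by
      rw [← mul_assoc, ← cid_comm, mul_assoc, hea']
    conv_lhs => rw [h1, show cid M χ * a = cid M χ * a * eL M L θ by rw [mul_assoc, hae]]
    simp only [mul_assoc]
  rw [he]
  by_cases hgT : g ∈ stab M (eL M L θ)
  · rw [show eL M L θ * el M g = el M g * eL M L θ from Eq.symm hgT, mul_assoc (el M g),
      eL_idem hs.modular hs.odd]
    calc cid M χ * a * (el M g * eL M L θ) * (cid M χ * (eL M L θ - a))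
        = cid M χ * (a * el M g) * (eL M L θ * (cid M χ * (eL M L θ - a))) := by
          simp only [mul_assoc]
      _ = cid M χ * el M g * (a * (cid M χ * (eL M L θ * (eL M L θ - a)))) := by
          rw [← hcomm g hgT, ← mul_assoc (eL M L θ), ← cid_comm χ (eL M L θ)]
          simp only [mul_assoc]
      _ = 0 := by
          rw [hea', show a * (cid M χ * (eL M L θ - a)) = 0 by
            rw [cid_comm χ, ← mul_assoc, mul_sub, hae, hidem, sub_self, zero_mul], mul_zero]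
  · rw [eL_el_eL_eq_zero hs.modular hs.odd hgT]
    simp

include hs hθ in
/-- The trace on `ε`. -/
theorem tr_el_eps (χ : IrrCharacter G) {h : G} (hh : h ∈ H) (hT : h ∈ stab M (eL M L θ)) :
    tr M χ (el M h * Y.W.eps) = tr M χ (Dg hs Y h) := by
  have p := (conj_w hs Y hh hT).1
  rw [el_eps_H hs Y hh hT, eps_el hs Y hh hT,
    show Y.W.X (stabHom M K θ ⟨h, hT⟩) * Dg hs Y h =
      Y.W.X (stabHom M K θ ⟨h, hT⟩) * Dg hs Y h * Y.W.eps by rw [mul_assoc, Dg_eps],
    ← Y.W.tr_P (two_zero hs) (odd_secY hs) _ (tr_mul_comm χ), Y.W.P_mul (cw_Dg hs Y h),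
    Y.W.P_X (two_zero hs) (odd_secY hs) p, eps_Dg]

include hs hθ in
theorem tr_mul_eps (χ : IrrCharacter G) {a : GA M G} (ha : Supp0 M H θ a) :
    tr M χ (a * Y.W.eps) = tr M χ (Dl hs Y a) := by
  conv_lhs => rw [eq_sum_el a]
  rw [Finset.sum_mul, map_sum, Dl_apply, map_sum]
  refine Finset.sum_congr rfl fun g _ => ?_
  by_cases hg : a.coeff g = 0
  · simp [hg]
  · rw [smul_mul_assoc, map_smul, map_smul, tr_el_eps hs Y χ (ha g hg).1 (ha g hg).2]

end H20.Magic.Setting
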