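import Cfsg.Agent.H20.Magic.Setting
import Mathlib.GroupTheory.SemidirectProduct

/-!
# A fixed member of an invariant orbit of idempotents
-/

set_option autoImplicit false
set_option linter.style.haveILetI false
set_option linter.unusedSectionVars false

open Cfsg MonoidAlgebra

namespace H20.Magic.Setting

universe u v

variable {M : Ideal AlgInt} [hMp : M.IsPrime]
variable {G : Type u} [Group G] [Fintype G] {S : Type v} [Group S] [Fintype S]
variable {φ : S →* MulAut G} {C K L H : Subgroup G}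
variable [K.Normal] [L.Normal] [Fintype L] [Fintype H] (hs : Setting M φ C K L H)

include hs in
/-- Glauberman's lemma for a conjugacy orbit of elements of the group algebra. -/
theorem exists_fixed_idem (H' : Subgroup G) (hinv : ∀ s, ∀ x ∈ H', φ s x ∈ H')
    (Ω : Set (GA M G)) (hne : Ω.Nonempty) (hΦ : ∀ s, ∀ a ∈ Ω, autA M (φ s) a ∈ Ω)
    (hconj : ∀ x ∈ H', ∀ a ∈ Ω, el M x * a * el M x⁻¹ ∈ Ω)
    (htr : ∀ a ∈ Ω, ∀ b ∈ Ω, ∃ x ∈ H', el M x * a * el M x⁻¹ = b) :
    ∃ a ∈ Ω, ∀ s, autA M (φ s) a = a := by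
  classical
  let ψ := H12.InvConst.resHom φ H' hinv
  let e₁ : H' →* (GA M G ≃ₐ[k M] GA M G) := (autA M).comp (MulAut.conj.comp H'.subtype)
  let e₂ : S →* (GA M G ≃ₐ[k M] GA M G) := (autA M).comp φ
  let e : H' ⋊[ψ] S →* (GA M G ≃ₐ[k M] GA M G) := SemidirectProduct.lift e₁ e₂ fun s => by
    refine MonoidHom.ext fun x => ?_
    show autA M (MulAut.conj ((ψ s x : H') : G)) =
      autA M (φ s) * autA M (MulAut.conj (x : G)) * (autA M (φ s))⁻¹
    rw [← map_inv, ← map_mul, ← map_mul]
    congr 1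
    refine MulEquiv.ext fun y => ?_
    show ((ψ s x : H') : G) * y * ((ψ s x : H') : G)⁻¹ =
      φ s ((x : G) * (φ s)⁻¹ y * (x : G)⁻¹)
    rw [map_mul, map_mul, map_inv, apply_apply_inv]
    rfl
  have hmem : ∀ (d : H' ⋊[ψ] S) (a : GA M G), a ∈ Ω → e d a ∈ Ω := by
    intro d a ha
    rw [← SemidirectProduct.inl_left_mul_inr_right d, map_mul, AlgEquiv.mul_apply,
      SemidirectProduct.lift_inl, SemidirectProduct.lift_inr]
    show autA M (MulAut.conj ((d.left : H') : G)) (autA M (φ d.right) a) ∈ Ω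
    rw [autA_conj]
    exact hconj _ d.left.2 _ (hΦ _ _ ha)
  let f : H' ⋊[ψ] S →* Equiv.Perm Ω :=
    MonoidHom.mk' (fun d =>
      { toFun := fun a => ⟨e d a, hmem d a a.2⟩
        invFun := fun a => ⟨e d⁻¹ a, hmem d⁻¹ a a.2⟩
        left_inv := fun a => Subtype.ext (by
          show e d⁻¹ (e d a) = a
          rw [← AlgEquiv.mul_apply, ← map_mul, inv_mul_cancel, map_one, AlgEquiv.one_apply])
        right_inv := fun a => Subtype.ext (by
          show e d (e d⁻¹ a) = a
          rw [← AlgEquiv.mul_apply, ← map_mul, mul_inv_cancel, map_one, AlgEquiv.one_apply]) })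
      fun d d' => Equiv.ext fun a => Subtype.ext (by
        show e (d * d') a = e d (e d' a)
        rw [map_mul, AlgEquiv.mul_apply])
  haveI : Finite (H' ⋊[ψ] S) := Finite.of_equiv _ SemidirectProduct.equivProd.symm
  let A : Subgroup (H' ⋊[ψ] S) := (SemidirectProduct.inl : H' →* H' ⋊[ψ] S).range
  haveI : A.Normal := by
    show (SemidirectProduct.inl : H' →* H' ⋊[ψ] S).range.Normal
    rw [SemidirectProduct.range_inl_eq_ker_rightHom]
    infer_instance
  let S' : Subgroup (H' ⋊[ψ] S) := (SemidirectProduct.inr : S →* H' ⋊[ψ] S).range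
  have hsup : A ⊔ S' = ⊤ := by
    refine (Subgroup.eq_top_iff' _).2 fun d => ?_
    rw [← SemidirectProduct.inl_left_mul_inr_right d]
    exact Subgroup.mul_mem_sup ⟨d.left, rfl⟩ ⟨d.right, rfl⟩
  have hA : Nat.card A = Nat.card H' :=
    (Nat.card_congr (MonoidHom.ofInjective SemidirectProduct.inl_injective).toEquiv).symm
  have hS : Nat.card S' = Nat.card S :=
    (Nat.card_congr (MonoidHom.ofInjective SemidirectProduct.inr_injective).toEquiv).symm
  haveI := hs.solvable
  have hsol : Group.IsSolvable (A.map (QuotientGroup.mk' (⊥ : Subgroup (H' ⋊[ψ] S)))) := by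
    haveI : Group.IsSolvable H' :=
      Group.isSolvable_of_isSolvable_injective (f := H'.subtype) Subtype.val_injective
    rw [show A.map (QuotientGroup.mk' (⊥ : Subgroup (H' ⋊[ψ] S))) =
      ((QuotientGroup.mk' (⊥ : Subgroup (H' ⋊[ψ] S))).comp SemidirectProduct.inl).range from
      (MonoidHom.range_comp _ _).symm]
    exact Group.isSolvable_of_surjective
      (MonoidHom.rangeRestrict_surjective _)
  obtain ⟨a₀, ha₀⟩ := hne
  obtain ⟨a, ha⟩ := H12.InvConst.exists_fixed_of_transitive A S' ⊥ bot_le hsup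
    (by rw [Subgroup.relIndex_bot_left, hA, hS]
        exact hs.coprime.coprime_dvd_left (Subgroup.card_subgroup_dvd_card _))
    (Or.inl hsol) (⟨a₀, ha₀⟩ : Ω) f (fun n hn => by rw [Subgroup.mem_bot.1 hn, map_one])
    (fun x y => by
      obtain ⟨g, hg, hgx⟩ := htr _ x.2 _ y.2
      refine ⟨SemidirectProduct.inl ⟨g, hg⟩, ⟨_, rfl⟩, Subtype.ext ?_⟩
      show e (SemidirectProduct.inl ⟨g, hg⟩) (x : GA M G) = y
      rw [SemidirectProduct.lift_inl]
      show autA M (MulAut.conj g) (x : GA M G) = y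
      rw [autA_conj]
      exact hgx)
  refine ⟨a, a.2, fun s => ?_⟩
  have h : e (SemidirectProduct.inr s) (a : GA M G) = a :=
    congrArg Subtype.val (ha _ ⟨s, rfl⟩)
  rwa [SemidirectProduct.lift_inr] at h

end H20.Magic.Setting
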