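import Cfsg.Agent.H20.Magic.Orbit
import Cfsg.Agent.H20.Magic.Fixed

/-!
# The odd order correspondence over an abelian section

`H20.Magic.Setting.correspondence`.
-/

set_option autoImplicit false
set_option linter.style.haveILetI false
set_option linter.unusedSectionVars false

open Cfsg MonoidAlgebra
open H12.Glauberman (mult)

namespace H20.Magic.Setting

universe u v

variable {M : Ideal AlgInt} [hMp : M.IsPrime]
variable {G : Type u} [Group G] [Fintype G] {S : Type v} [Group S] [Fintype S]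
variable {φ : S →* MulAut G} {C K L H : Subgroup G}
variable [K.Normal] [hLn : L.Normal] [Fintype L] [Fintype H] (hs : Setting M φ C K L H)

variable (M) in
/-- The trace of a character of `H` on the part supported in `H`. -/
noncomputable def tH (ψ : IrrCharacter H) : GA M G →ₗ[k M] k M := (tr M ψ).comp (res M H)

variable (M) in
/-- The idempotent of a character of `H` over `θ`. -/
noncomputable def zi (θ : IrrCharacter L) (ψ : IrrCharacter H) : GA M G :=
  incl M H (cid M ψ) * eL M L θ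

theorem tH_apply (ψ : IrrCharacter H) (a : GA M G) : tH M ψ a = tr M ψ (res M H a) := rfl

include hs in
theorem oddH : Odd (Nat.card H) := hs.odd.of_dvd_nat (Subgroup.card_subgroup_dvd_card H)

include hs in
theorem oddL : Odd (Nat.card L) := hs.odd.of_dvd_nat (Subgroup.card_subgroup_dvd_card L)

include hs in
theorem incl_res_eL (θ : IrrCharacter L) : incl M H (res M H (eL M L θ)) = eL M L θ :=
  incl_res H fun _ hg => hs.L_le_H (mem_of_coeff_incl_ne_zero hg)

theorem el_cidH {h : G} (hh : h ∈ H) (ψ : IrrCharacter H) :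
    el M h * incl M H (cid M ψ) = incl M H (cid M ψ) * el M h := by
  rw [show el M h = incl M H (el M ⟨h, hh⟩) from (incl_el H ⟨h, hh⟩).symm, ← map_mul, ← map_mul,
    cid_comm]

include hs in
theorem eL_cidH (θ : IrrCharacter L) (ψ : IrrCharacter H) :
    eL M L θ * incl M H (cid M ψ) = incl M H (cid M ψ) * eL M L θ := by
  rw [← hs.incl_res_eL θ, ← map_mul, ← map_mul, cid_comm]

include hs in
theorem zi_eL (θ : IrrCharacter L) (ψ : IrrCharacter H) :
    zi M θ ψ * eL M L θ = zi M θ ψ := by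
  rw [zi, mul_assoc, eL_idem hs.modular hs.odd]

include hs in
theorem eL_zi (θ : IrrCharacter L) (ψ : IrrCharacter H) :
    eL M L θ * zi M θ ψ = zi M θ ψ := by
  rw [zi, ← mul_assoc, hs.eL_cidH, mul_assoc, eL_idem hs.modular hs.odd]

include hs in
open scoped Classical in
theorem zi_mul_zi (θ : IrrCharacter L) (ψ ψ' : IrrCharacter H) :
    zi M θ ψ * zi M θ ψ' = if ψ = ψ' then zi M θ ψ else 0 := by
  rw [zi, mul_assoc, hs.eL_zi, zi, ← mul_assoc, ← map_mul, cid_mul_cid hs.modular hs.oddH]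
  split_ifs
  · rfl
  · rw [map_zero, zero_mul]

include hs in
theorem sum_zi (θ : IrrCharacter L) : ∑ ψ : IrrCharacter H, zi M θ ψ = eL M L θ := by
  simp only [zi]
  rw [← Finset.sum_mul, ← map_sum, sum_cid hs.modular hs.oddH, map_one, one_mul]

include hs in
theorem supp_eae (θ : IrrCharacter L) {a : GA M G} (ha : ∀ g, a.coeff g ≠ 0 → g ∈ H) :
    Supp0 M H θ (eL M L θ * a * eL M L θ) := by
  intro g hg
  rw [eq_sum_el a, Finset.mul_sum, Finset.sum_mul, coeff_sum, Finsupp.finsetSum_apply] at hg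
  obtain ⟨x, -, hx⟩ := Finset.exists_ne_zero_of_sum_ne_zero hg
  rw [mul_smul_comm, smul_mul_assoc, coeff_smul_apply, smul_eq_mul] at hx
  have hxH := ha x (left_ne_zero_of_mul hx)
  have hx' := right_ne_zero_of_mul hx
  by_cases hxT : x ∈ stab M (eL M L θ)
  · rw [show eL M L θ * el M x = el M x * eL M L θ from Eq.symm hxT, mul_assoc,
      eL_idem hs.modular hs.odd, coeff_el_mul] at hx'
    have hl := mem_of_coeff_incl_ne_zero hx'
    have e : g = x * (x⁻¹ * g) := by group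
    rw [e]
    exact ⟨H.mul_mem hxH (hs.L_le_H hl), (stab M _).mul_mem hxT (el_mem_stab_eL θ hl)⟩
  · rw [eL_el_eL_eq_zero hs.modular hs.odd hxT] at hx'
    simp at hx'

include hs in
theorem supp_zi (θ : IrrCharacter L) (ψ : IrrCharacter H) : Supp0 M H θ (zi M θ ψ) := by
  have h := hs.supp_eae θ (a := incl M H (cid M ψ)) fun g hg => mem_of_coeff_incl_ne_zero hg
  rwa [hs.eL_cidH, mul_assoc, eL_idem hs.modular hs.odd] at h

theorem supp_el {θ : IrrCharacter L} {h : G} (hh : h ∈ H) (hT : h ∈ stab M (eL M L θ)) :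
    Supp0 M H θ (el M h) := by
  classical
  intro g hg
  simp only [el, MonoidAlgebra.of_apply, coeff_single] at hg
  rw [Finsupp.single_apply] at hg
  split_ifs at hg with he
  · exact he ▸ ⟨hh, hT⟩
  · exact absurd rfl hg

include hs in
theorem supp_eL (θ : IrrCharacter L) : Supp0 M H θ (eL M L θ) := fun _ hg =>
  ⟨hs.L_le_H (mem_of_coeff_incl_ne_zero hg), el_mem_stab_eL θ (mem_of_coeff_incl_ne_zero hg)⟩

include hs in
theorem tr_zi (θ : IrrCharacter L) (χ : IrrCharacter G) (ψ : IrrCharacter H) :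
    tr M χ (zi M θ ψ) = (mult H χ ψ : k M) * tH M ψ (eL M L θ) := by
  classical
  rw [zi, ← hs.incl_res_eL θ, ← map_mul, tr_incl, Finset.sum_eq_single ψ]
  · rw [cid_comm, tr_mul_cid hs.modular hs.oddH, if_pos rfl, tH_apply, res_incl]
  · intro β _ hne
    rw [cid_comm, tr_mul_cid hs.modular hs.oddH, if_neg hne, mul_zero]
  · simp

include hs in
theorem sum_eL : ∑ θ : IrrCharacter L, eL M L θ = 1 := by
  simp only [eL]
  rw [← map_sum, sum_cid hs.modular hs.oddL, map_one]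

include hs in
theorem cid_mul_eL_eq_zero (θ : IrrCharacter L) (χ : IrrCharacter G)
    (h : tr M χ (eL M L θ) = 0) : cid M χ * eL M L θ = 0 :=
  family_mul_eq_zero (fun θ : IrrCharacter L => eL M L θ) hs.modular hs.odd hs.sum_eL
    (fun _ _ => conj_eL_mul_eq_zero hs.modular hs.odd) (fun θ x => ⟨_, conj_eL L x θ⟩) χ θ h

include hs in
theorem famH_conj (θ : IrrCharacter L) (x : H) :
    ∃ θ' : IrrCharacter L,
      el M x * res M H (eL M L θ) * el M x⁻¹ = res M H (eL M L θ') :=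
  ⟨H13.twistIrr L (x : G)⁻¹ θ, incl_injective H (by
    rw [map_mul, map_mul, incl_el, incl_el, hs.incl_res_eL, hs.incl_res_eL, Subgroup.coe_inv,
      conj_eL])⟩

include hs in
theorem famH_orth (θ θ' : IrrCharacter L)
    (h : res M H (eL M L θ) ≠ res M H (eL M L θ')) :
    res M H (eL M L θ) * res M H (eL M L θ') = 0 := incl_injective H (by
  rw [map_mul, hs.incl_res_eL, hs.incl_res_eL, map_zero,
    conj_eL_mul_eq_zero hs.modular hs.odd fun h' => h (by rw [h'])])

include hs in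
theorem zi_eq_zero (θ : IrrCharacter L) (ψ : IrrCharacter H) (h : tH M ψ (eL M L θ) = 0) :
    zi M θ ψ = 0 := by
  have h' := family_mul_eq_zero (fun θ : IrrCharacter L => res M H (eL M L θ)) hs.modular hs.oddH
    (incl_injective H (by
      rw [map_sum, map_one]
      simp only [hs.incl_res_eL]
      exact hs.sum_eL))
    hs.famH_orth hs.famH_conj ψ θ h
  rw [zi, ← hs.incl_res_eL θ, ← map_mul, h', map_zero]

include hs in
theorem zi_ne_zero (θ : IrrCharacter L) (ψ : IrrCharacter H) (h : tH M ψ (eL M L θ) ≠ 0) :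
    zi M θ ψ ≠ 0 := fun h0 => by
  classical
  rw [zi, ← hs.incl_res_eL θ, ← map_mul] at h0
  have h1 : cid M ψ * res M H (eL M L θ) = 0 := incl_injective H (h0.trans (map_zero _).symm)
  have h2 := tr_mul_cid hs.modular hs.oddH ψ ψ (res M H (eL M L θ))
  rw [← cid_comm, h1, map_zero, if_pos rfl] at h2
  exact h h2.symm

include hs in
theorem tr_eL_eq_one (θ : IrrCharacter L) (χ : IrrCharacter G)
    (h : tr M χ (eL M L θ) ≠ 0) : tr M χ (eL M L θ) = 1 := by
  rw [eL, tr_incl_cid hs.modular hs.oddL] at h ⊢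
  exact natCast_odd hs.modular (odd_of_natCast hs.modular h)

include hs in
theorem tr_cid_mul (χ : IrrCharacter G) (a : GA M G) : tr M χ (cid M χ * a) = tr M χ a := by
  classical
  rw [cid_comm, tr_mul_cid hs.modular hs.odd, if_pos rfl]

include hs in
/-- A fixed constituent. -/
theorem exists_fixed_under (χ : IrrCharacter G) (hχ : ∀ s, autA M (φ s) (cid M χ) = cid M χ) :
    ∃ θ : IrrCharacter L, (∀ s, autA M (φ s) (eL M L θ) = eL M L θ) ∧
      tr M χ (eL M L θ) ≠ 0 := by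
  classical
  have hinvtr : ∀ s a, tr M χ (autA M (φ s) a) = tr M χ a := by
    intro s a
    rw [← hs.tr_cid_mul, ← hs.tr_cid_mul χ a]
    conv_lhs => rw [← hχ s, ← map_mul, tr_autA]
    have : compIrr χ (φ s) = χ := by
      have h := hχ s⁻¹
      rw [autA_cid, map_inv, inv_inv] at h
      exact cid_injective hs.modular hs.odd h
    rw [this]
  let Ω : Set (GA M G) := {a | ∃ θ : IrrCharacter L, a = eL M L θ ∧ tr M χ a ≠ 0}
  obtain ⟨a, ⟨θ, rfl, hθ0⟩, ha⟩ := hs.exists_fixed_idem ⊤ (fun _ _ _ => Subgroup.mem_top _) Ω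
    (by
      by_contra hcon
      have h1 := congrArg (tr M χ) (hs.sum_eL)
      rw [map_sum, Finset.sum_eq_zero fun θ _ => ?_, ← el_one, tr_el,
        red_degree hs.modular hs.odd] at h1
      · exact zero_ne_one h1
      · by_contra h
        exact hcon ⟨_, θ, rfl, h⟩)
    (fun s a ⟨θ, hθa, h⟩ => by
      subst hθa
      obtain ⟨θ', hθ'⟩ := hs.map_eL (φ s) (hs.L_inv_iff s) θ
      exact ⟨θ', hθ', by rwa [hinvtr]⟩)
    (fun x _ a ⟨θ, hθa, h⟩ => by
      subst hθa
      exact ⟨_, conj_eL L x θ, by rwa [tr_conj]⟩)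
    (fun a ⟨θ, hθa, h⟩ b ⟨θ', hθb, h'⟩ => by
      subst hθa hθb
      obtain ⟨x, hx⟩ := family_transitive (fun θ : IrrCharacter L => eL M L θ) hs.modular hs.odd
        (fun _ _ => conj_eL_mul_eq_zero hs.modular hs.odd) (fun θ x => ⟨_, conj_eL L x θ⟩)
        χ θ θ' h h'
      exact ⟨x, Subgroup.mem_top x, hx⟩)
  exact ⟨θ, ha, hθ0⟩

/-- The action of the operators on `H`. -/
noncomputable def phiH : S →* MulAut H := H12.InvConst.resHom φ H hs.H_inv

theorem autA_incl (s : S) (a : GA M H) :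
    autA M (φ s) (incl M H a) = incl M H (autA M (phiH hs s) a) := by
  have h : (autA M (φ s)).toLinearMap.comp (incl M H).toLinearMap =
      (incl M H).toLinearMap.comp (autA M (phiH hs s)).toLinearMap := linearMap_ext fun x => by
    simp only [LinearMap.comp_apply, AlgHom.toLinearMap_apply, AlgEquiv.toLinearMap_apply, incl_el,
      autA_el]
    rfl
  exact LinearMap.congr_fun h a

include hs in
theorem tH_autA {ψ : IrrCharacter H} (hψ : ∀ s, compIrr ψ (phiH hs s) = ψ) (s : S)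
    {a : GA M G} (ha : ∀ g, a.coeff g ≠ 0 → g ∈ H) :
    tH M ψ (autA M (φ s) a) = tH M ψ a := by
  rw [← incl_res H ha, autA_incl hs, tH_apply, tH_apply, res_incl, res_incl, tr_autA, hψ]

include hs in
theorem tH_conj (ψ : IrrCharacter H) {x : G} (hx : x ∈ H) {a : GA M G}
    (ha : ∀ g, a.coeff g ≠ 0 → g ∈ H) :
    tH M ψ (el M x * a * el M x⁻¹) = tH M ψ a := by
  rw [← incl_res H ha, ← incl_el (M := M) H ⟨x, hx⟩,
    show el M x⁻¹ = incl M H (el M (⟨x, hx⟩⁻¹ : H)) from (incl_el H (⟨x, hx⟩⁻¹ : H)).symm,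
    ← map_mul, ← map_mul, tH_apply, tH_apply, res_incl, res_incl, tr_conj]

include hs in
/-- A fixed constituent of a character of `H`. -/
theorem exists_fixed_underH (ψ : IrrCharacter H) (hψ : ∀ s, compIrr ψ (phiH hs s) = ψ) :
    ∃ θ : IrrCharacter L, (∀ s, autA M (φ s) (eL M L θ) = eL M L θ) ∧
      tH M ψ (eL M L θ) ≠ 0 := by
  classical
  have hsupp : ∀ (θ : IrrCharacter L) g, (eL M L θ).coeff g ≠ 0 → g ∈ H :=
    fun θ g hg => hs.L_le_H (mem_of_coeff_incl_ne_zero hg)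
  let Ω : Set (GA M G) := {a | ∃ θ : IrrCharacter L, a = eL M L θ ∧ tH M ψ a ≠ 0}
  obtain ⟨a, ⟨θ, rfl, hθ0⟩, ha⟩ := hs.exists_fixed_idem H hs.H_inv Ω
    (by
      by_contra hcon
      have h1 := congrArg (tH M ψ) (hs.sum_eL)
      rw [map_sum, Finset.sum_eq_zero fun θ _ => ?_, tH_apply,
        show res M H (1 : GA M G) = 1 by rw [← map_one (incl M H), res_incl],
        ← el_one, tr_el, red_degree hs.modular hs.oddH] at h1
      · exact zero_ne_one h1
      · by_contra h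
        exact hcon ⟨_, θ, rfl, h⟩)
    (fun s a ⟨θ, hθa, h⟩ => by
      subst hθa
      obtain ⟨θ', hθ'⟩ := hs.map_eL (φ s) (hs.L_inv_iff s) θ
      exact ⟨θ', hθ', by rwa [hs.tH_autA hψ s (hsupp θ)]⟩)
    (fun x hx a ⟨θ, hθa, h⟩ => by
      subst hθa
      exact ⟨_, conj_eL L x θ, by rwa [hs.tH_conj ψ hx (hsupp θ)]⟩)
    (fun a ⟨θ, hθa, h⟩ b ⟨θ', hθb, h'⟩ => by
      subst hθa hθb
      obtain ⟨x, hx⟩ := family_transitive (fun θ : IrrCharacter L => res M H (eL M L θ)) hs.modular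
        hs.oddH hs.famH_orth hs.famH_conj ψ θ θ' h h'
      refine ⟨x, x.2, ?_⟩
      have hx' := congrArg (incl M H) hx
      rwa [map_mul, map_mul, incl_el, incl_el, hs.incl_res_eL, hs.incl_res_eL,
        Subgroup.coe_inv] at hx')
  exact ⟨θ, ha, hθ0⟩

section Over

variable {θ : IrrCharacter L} {hθ : ∀ s, autA M (φ s) (eL M L θ) = eL M L θ}
variable [AbSec K L] (Y : Sys M φ θ (secHom hs θ hθ))

include hs hθ in
theorem Dl_zi_idem (ψ : IrrCharacter H) :
    Dl hs Y (zi M θ ψ) * Dl hs Y (zi M θ ψ) = Dl hs Y (zi M θ ψ) := by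
  classical
  rw [← Dl_mul hs Y (hs.supp_zi θ ψ) (hs.supp_zi θ ψ), hs.zi_mul_zi, if_pos rfl]

include hs hθ in
theorem Dl_zi_comm (ψ : IrrCharacter H) :
    ∀ g ∈ stab M (eL M L θ), el M g * Dl hs Y (zi M θ ψ) = Dl hs Y (zi M θ ψ) * el M g := by
  have hz : ∀ h, h ∈ H → h ∈ stab M (eL M L θ) →
      Dg hs Y h * Dl hs Y (zi M θ ψ) = Dl hs Y (zi M θ ψ) * Dg hs Y h := by
    intro h hh hT
    rw [← Dl_el hs Y h, ← Dl_mul hs Y (supp_el hh hT) (hs.supp_zi θ ψ),
      ← Dl_mul hs Y (hs.supp_zi θ ψ) (supp_el hh hT), zi, ← mul_assoc, el_cidH hh, mul_assoc,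
      mul_assoc, show el M h * eL M L θ = eL M L θ * el M h from hT]
  refine comm_stab hs Y ?_ ?_ (fun v => w_Dl hs Y _ v) ?_ ?_
  · rw [← Dl_eps hs Y, mul_assoc, eps_mul_eL]
  · rw [← eps_Dl hs Y, ← mul_assoc, eL_mul_eps]
  · intro l hl
    calc el M l * Dl hs Y (zi M θ ψ) = el M l * (Y.W.eps * Dl hs Y (zi M θ ψ)) := by rw [eps_Dl]
      _ = Dg hs Y l * Dl hs Y (zi M θ ψ) := by
          rw [← mul_assoc, el_eps_comm hs Y hl, Dg_L hs Y hl]
      _ = Dl hs Y (zi M θ ψ) * (Y.W.eps * el M l) := by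
          rw [hz l (hs.L_le_H hl) (el_mem_stab_eL θ hl), Dg_L hs Y hl]
      _ = Dl hs Y (zi M θ ψ) * el M l := by rw [← mul_assoc, Dl_eps]
  · intro c hc hcT
    have hcH := hs.C_le_H hc
    calc el M c * Dl hs Y (zi M θ ψ) = el M c * (Y.W.eps * Dl hs Y (zi M θ ψ)) := by rw [eps_Dl]
      _ = Y.W.X (stabHom M K θ ⟨c, hcT⟩) * Dg hs Y c * Dl hs Y (zi M θ ψ) := by
          rw [← mul_assoc, el_eps_H hs Y hcH hcT, eps_el hs Y hcH hcT]
      _ = Dl hs Y (zi M θ ψ) * (Y.W.X (stabHom M K θ ⟨c, hcT⟩) * Dg hs Y c) := by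
          rw [mul_assoc, hz c hcH hcT, ← mul_assoc, X_Dl, mul_assoc]
      _ = Dl hs Y (zi M θ ψ) * el M c := by
          rw [← eps_el hs Y hcH hcT, ← mul_assoc, Dl_eps]

variable {χ : IrrCharacter G} (hov : cid M χ * Y.W.eps ≠ 0)

include hs hθ hov in
theorem over_eq : cid M χ * Y.W.eps = cid M χ * eL M L θ :=
  (dichotomy hs χ (Y.W.eps_idem (two_zero hs) (odd_secY hs)) (eps_mul_eL hs Y) (eL_mul_eps hs Y)
    (eps_comm_stab hs Y)).resolve_left hov

include hs hθ hov in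
theorem over_tr_eL : tr M χ (eL M L θ) = 1 :=
  hs.tr_eL_eq_one θ χ fun h => hov (by rw [over_eq hs Y hov, hs.cid_mul_eL_eq_zero θ χ h])

include hs hθ hov in
theorem over_tr_mul (a : GA M G) : tr M χ (a * eL M L θ) = tr M χ (a * Y.W.eps) := by
  rw [← hs.tr_cid_mul, ← mul_assoc, cid_comm, mul_assoc, ← over_eq hs Y hov, ← mul_assoc,
    ← cid_comm, mul_assoc, hs.tr_cid_mul]

include hs hθ hov in
theorem over_tr_eps : tr M χ Y.W.eps = 1 := by
  rw [← hs.tr_cid_mul, over_eq hs Y hov, hs.tr_cid_mul, over_tr_eL hs Y hov]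

include hs hθ hov in
theorem over_tr_zi (ψ : IrrCharacter H) :
    tr M χ (zi M θ ψ) = tr M χ (Dl hs Y (zi M θ ψ)) := by
  rw [← tr_mul_eps hs Y χ (hs.supp_zi θ ψ), ← over_tr_mul hs Y hov, hs.zi_eL]

include hs hθ hov in
/-- Exactly one character of `H` over `θ` is linked to `χ`. -/
theorem exists_link_char :
    ∃ ψ₀ : IrrCharacter H, tr M χ (zi M θ ψ₀) = 1 ∧
      ∀ ψ, ψ ≠ ψ₀ → tr M χ (zi M θ ψ) = 0 := by
  classical
  have hd : ∀ ψ : IrrCharacter H, cid M χ * Dl hs Y (zi M θ ψ) = 0 ∨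
      cid M χ * Dl hs Y (zi M θ ψ) = cid M χ * eL M L θ := fun ψ =>
    dichotomy hs χ (Dl_zi_idem hs Y ψ) (by rw [← Dl_eps hs Y, mul_assoc, eps_mul_eL])
      (by rw [← eps_Dl hs Y, ← mul_assoc, eL_mul_eps]) (Dl_zi_comm hs Y ψ)
  have hne : cid M χ * eL M L θ ≠ 0 := over_eq hs Y hov ▸ hov
  obtain ⟨ψ₀, hψ₀⟩ : ∃ ψ₀, cid M χ * Dl hs Y (zi M θ ψ₀) ≠ 0 := by
    by_contra hcon
    push Not at hcon
    apply hov
    rw [← Dl_eL hs Y, ← hs.sum_zi θ, map_sum, Finset.mul_sum]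
    exact Finset.sum_eq_zero fun ψ _ => hcon ψ
  have h0 := (hd ψ₀).resolve_left hψ₀
  refine ⟨ψ₀, ?_, fun ψ hψ => ?_⟩
  · rw [over_tr_zi hs Y hov, ← hs.tr_cid_mul, h0, hs.tr_cid_mul, over_tr_eL hs Y hov]
  · rw [over_tr_zi hs Y hov, ← hs.tr_cid_mul]
    rcases hd ψ with h | h
    · rw [h, map_zero]
    exfalso
    refine hne ?_
    calc cid M χ * eL M L θ = cid M χ * Dl hs Y (zi M θ ψ) * (cid M χ * Dl hs Y (zi M θ ψ₀)) := by
          rw [h, h0, mul_assoc, ← mul_assoc (eL M L θ), ← cid_comm χ (eL M L θ), mul_assoc,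
            eL_idem hs.modular hs.odd, ← mul_assoc, cid_idem hs.modular hs.odd]
      _ = cid M χ * (cid M χ * (Dl hs Y (zi M θ ψ) * Dl hs Y (zi M θ ψ₀))) := by
          rw [mul_assoc, ← mul_assoc (Dl hs Y (zi M θ ψ)), ← cid_comm χ (Dl hs Y (zi M θ ψ))]
          simp only [mul_assoc]
      _ = 0 := by
          rw [← Dl_mul hs Y (hs.supp_zi θ ψ) (hs.supp_zi θ ψ₀), hs.zi_mul_zi, if_neg hψ, map_zero,
            mul_zero, mul_zero]

include hs hθ hov in
/-- The trace of the corner on the image of `H`. -/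
theorem over_tr_Dg {ψ₀ : IrrCharacter H} (h₀ : tr M χ (zi M θ ψ₀) = 1)
    (h₁ : ∀ ψ, ψ ≠ ψ₀ → tr M χ (zi M θ ψ) = 0) {h : G} (hh : h ∈ H)
    (hT : h ∈ stab M (eL M L θ)) :
    tr M χ (Dg hs Y h) = tH M ψ₀ (el M h * eL M L θ) := by
  classical
  let F : GA M H →ₗ[k M] k M :=
    ((tr M χ).comp (Dl hs Y)).comp
      ((LinearMap.mulLeft (k M) (eL M L θ)).comp
        ((LinearMap.mulRight (k M) (eL M L θ)).comp (incl M H).toLinearMap))
  have hF : ∀ a, F a = tr M χ (Dl hs Y (eL M L θ * (incl M H a * eL M L θ))) := fun _ => rfl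
  set a : GA M H := res M H (el M h * eL M L θ) with ha
  have hia : incl M H a = el M h * eL M L θ := incl_res H fun g hg => by
    rw [coeff_el_mul] at hg
    have := H.mul_mem hh (hs.L_le_H (mem_of_coeff_incl_ne_zero hg))
    rwa [mul_inv_cancel_left] at this
  have hcomm : eL M L θ * el M h = el M h * eL M L θ := Eq.symm hT
  have hee := eL_idem hs.modular hs.odd θ
  have hsa : Supp0 M H θ (el M h * eL M L θ) := by
    have := hs.supp_eae θ (a := el M h) fun g hg => (supp_el (θ := θ) hh hT g hg).1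
    rwa [hcomm, mul_assoc, hee] at this
  have hx : ∀ x : H, F (el M x * a * el M x⁻¹) =
      if (x : G) ∈ stab M (eL M L θ) then tr M χ (Dg hs Y h) else 0 := by
    intro x
    rw [hF, map_mul (incl M H), map_mul (incl M H), incl_el, incl_el, hia, Subgroup.coe_inv]
    split_ifs with hxT
    · have e1 : eL M L θ * (el M (x : G) * (el M h * eL M L θ) * el M (x : G)⁻¹ * eL M L θ) =
          el M (x : G) * (el M h * eL M L θ) * el M (x : G)⁻¹ := by
        have c1 : eL M L θ * el M (x : G) = el M (x : G) * eL M L θ := Eq.symm hxT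
        have c2 : el M (x : G)⁻¹ * eL M L θ = eL M L θ * el M (x : G)⁻¹ :=
          (stab M (eL M L θ)).inv_mem hxT
        calc _ = (eL M L θ * el M (x : G)) * (el M h * eL M L θ) *
              (el M (x : G)⁻¹ * eL M L θ) := by simp only [mul_assoc]
          _ = el M (x : G) * (eL M L θ * el M h) * (eL M L θ * eL M L θ) * el M (x : G)⁻¹ := by
              rw [c1, c2]; simp only [mul_assoc]
          _ = _ := by rw [hee, hcomm, mul_assoc _ _ (eL M L θ), mul_assoc (el M h), hee]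
      have hx2 := supp_el (θ := θ) (M := M) x.2 hxT
      have hx2' := supp_el (θ := θ) (M := M) (H.inv_mem x.2) ((stab M _).inv_mem hxT)
      have hmul : ∀ {a b : GA M G}, Supp0 M H θ a → Supp0 M H θ b → Supp0 M H θ (a * b) := by
        intro a b ha hb g hg
        obtain ⟨y, hy, hyg⟩ := exists_of_coeff_mul_ne_zero hg
        have h3 := hb _ hyg
        have h4 := ha y hy
        rw [show g = y * (y⁻¹ * g) by group]
        exact ⟨H.mul_mem h4.1 h3.1, (stab M _).mul_mem h4.2 h3.2⟩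
      rw [e1, Dl_mul hs Y (hmul hx2 hsa) hx2', Dl_mul hs Y hx2 hsa, Dl_el, Dl_el,
        tr_mul_comm, ← mul_assoc, Dg_mul hs Y (H.inv_mem x.2) ((stab M _).inv_mem hxT) x.2 hxT,
        inv_mul_cancel, Dg_one, eps_Dl, Dl_mul hs Y (supp_el hh hT) (hs.supp_eL θ), Dl_el, Dl_eL,
        Dg_eps]
    · have e1 : eL M L θ * el M (x : G) * (el M h * eL M L θ) = 0 := by
        rw [← hcomm, ← mul_assoc, eL_el_eL_eq_zero hs.modular hs.odd hxT, zero_mul]
      rw [show eL M L θ * (el M (x : G) * (el M h * eL M L θ) * el M (x : G)⁻¹ * eL M L θ) =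
        eL M L θ * el M (x : G) * (el M h * eL M L θ) * (el M (x : G)⁻¹ * eL M L θ) by
          simp only [mul_assoc], e1, zero_mul, map_zero, map_zero]
  have hsum := congrArg F (sum_conj hs.modular hs.oddH a)
  rw [map_sum, map_sum, Finset.sum_congr rfl fun x _ => hx x, ← Finset.sum_filter,
    Finset.sum_const, nsmul_eq_mul] at hsum
  have hc : ((Finset.univ.filter fun x : H => (x : G) ∈ stab M (eL M L θ)).card : k M) = 1 := by
    rw [show (Finset.univ.filter fun x : H => (x : G) ∈ stab M (eL M L θ)).card =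
      Nat.card ((stab M (eL M L θ)).subgroupOf H) from by
        rw [← Nat.card_eq_finsetCard]
        exact Nat.card_congr (Equiv.subtypeEquivRight fun x => by
          simp [Subgroup.mem_subgroupOf])]
    exact subgroup_card_eq_one hs.modular hs.oddH _
  have hFc : ∀ ψ, F (cid M ψ) = tr M χ (zi M θ ψ) := fun ψ => by
    rw [hF, show incl M H (cid M ψ) * eL M L θ = zi M θ ψ from rfl, hs.eL_zi,
      over_tr_zi hs Y hov]
  rw [hc, one_mul, Finset.sum_eq_single ψ₀] at hsum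
  · rw [hsum, map_smul, hFc, h₀, smul_eq_mul, mul_one, tH_apply]
  · intro ψ _ hne
    rw [map_smul, hFc, h₁ ψ hne, smul_zero]
  · simp

include hs hθ in
/-- Two characters linked to the same character of `H` are equal. -/
theorem over_injective {χ χ' : IrrCharacter G} (h : cid M χ * Y.W.eps ≠ 0)
    (h' : cid M χ' * Y.W.eps ≠ 0) (ψ : IrrCharacter H) (hψ : tr M χ (zi M θ ψ) ≠ 0)
    (hψ' : tr M χ' (zi M θ ψ) ≠ 0) : χ = χ' := by
  classical
  obtain ⟨ψ₁, a0, a1⟩ := exists_link_char hs Y h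
  obtain ⟨ψ₂, b0, b1⟩ := exists_link_char hs Y h'
  have e1 : ψ = ψ₁ := by by_contra hn; exact hψ (a1 ψ hn)
  have e2 : ψ = ψ₂ := by by_contra hn; exact hψ' (b1 ψ hn)
  subst e1 e2
  have hD : ∀ g, tr M χ (Dg hs Y g) = tr M χ' (Dg hs Y g) := fun g => by
    by_cases hg : g ∈ H ∧ g ∈ stab M (eL M L θ)
    · rw [over_tr_Dg hs Y h a0 a1 hg.1 hg.2, over_tr_Dg hs Y h' b0 b1 hg.1 hg.2]
    · rw [Dg, dif_neg hg, map_zero, map_zero]
  -- elements `w v · X · D h`
  have h2 := two_zero hs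
  have hodd : Odd (Nat.card (Sec M K θ)) := odd_secY hs
  have hP : ∀ (t : IrrCharacter G) (z : GA M G) (g : G),
      tr M t (z * Dg hs Y g) = tr M t (Y.W.P z * Dg hs Y g) := by
    intro t z g
    rw [← Y.W.P_mul (cw_Dg hs Y g), Y.W.tr_P h2 hodd _ (tr_mul_comm t), mul_assoc, Dg_eps]
  have hscal : ∀ (v : Sec M K θ) (b : Sec M K θ ≃* Sec M K θ),
      ∃ κ : k M, Y.W.P (Y.W.cw v * Y.W.X b) = κ • Y.W.eps := by
    intro v b
    refine ⟨∑ x, (Y.W.σ (b x) x⁻¹ * Y.W.σ v (b x * x⁻¹)) *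
      (if v * (b x * x⁻¹) ∈ Y.W.R then 1 else 0), ?_⟩
    rw [Weyl.X, Finset.mul_sum, map_sum, Finset.sum_smul]
    refine Finset.sum_congr rfl fun x _ => ?_
    rw [Y.W.cw_mul h2 hodd, mul_smul_comm, Y.W.cw_mul h2 hodd, smul_smul, map_smul,
      Y.W.P_cw h2 hodd]
    split_ifs <;> simp [mul_comm]
  have hmain : ∀ y ∈ stab M (eL M L θ),
      tr M χ (el M y * Y.W.eps) = tr M χ' (el M y * Y.W.eps) := by
    intro y hy
    obtain ⟨x, hx, c, hc', rfl⟩ := hs.stab_decomp θ hθ hy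
    obtain ⟨hc, hcT⟩ := Subgroup.mem_inf.1 hc'
    obtain ⟨b, hb, hbe⟩ := K1_decomp hs Y hx
    have hcH := hs.C_le_H hc
    have e : el M (x * c) * Y.W.eps = ∑ g : G, b.coeff g •
        (Y.W.cw (cls hx) * Y.W.X (stabHom M K θ ⟨c, hcT⟩) * Dg hs Y (g * c)) := by
      calc el M (x * c) * Y.W.eps = el M x * (Y.W.eps * el M c) := by
            rw [el_mul, mul_assoc, el_eps_H hs Y hcH hcT]
        _ = el M x * eL M L θ * (Y.W.eps * el M c) := by
            rw [mul_assoc, ← mul_assoc (eL M L θ), eL_mul_eps]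
        _ = Y.W.w (cls hx) * b * (Y.W.eps * (Y.W.X (stabHom M K θ ⟨c, hcT⟩) * Dg hs Y c)) := by
            rw [hbe, ← eps_el hs Y hcH hcT, ← mul_assoc Y.W.eps Y.W.eps,
              Y.W.eps_idem h2 hodd]
        _ = Y.W.w (cls hx) * Y.W.eps *
              (Y.W.X (stabHom M K θ ⟨c, hcT⟩) * (b * Dg hs Y c)) := by
            rw [mul_assoc, ← mul_assoc b, supp_L_comm hb (fun _ hl => el_eps_comm hs Y hl),
              mul_assoc Y.W.eps, ← mul_assoc b (Y.W.X _),
              supp_L_comm hb (fun _ hl => el_X_comm hs Y hl _)]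
            simp only [mul_assoc]
        _ = _ := by
            conv_lhs => rw [eq_sum_el b, Finset.sum_mul, Finset.mul_sum, Finset.mul_sum]
            refine Finset.sum_congr rfl fun g _ => ?_
            by_cases hg : b.coeff g = 0
            · simp [hg]
            have hgL := hb g hg
            rw [smul_mul_assoc, mul_smul_comm, mul_smul_comm, ← Dg_mul hs Y (hs.L_le_H hgL)
              (el_mem_stab_eL θ hgL) hcH hcT, Dg_L hs Y hgL, Weyl.cw]
            congr 1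
            calc Y.W.w (cls hx) * Y.W.eps * (Y.W.X _ * (el M g * Dg hs Y c))
                = Y.W.w (cls hx) * Y.W.eps * (Y.W.X _ * (el M g * (Y.W.eps * Dg hs Y c))) := by
                  rw [eps_Dg]
              _ = _ := by rw [← mul_assoc (el M g), el_eps_comm hs Y hgL]; simp only [mul_assoc]
    obtain ⟨κ, hκ⟩ := hscal (cls hx) (stabHom M K θ ⟨c, hcT⟩)
    rw [e, map_sum, map_sum]
    refine Finset.sum_congr rfl fun g _ => ?_
    rw [map_smul, map_smul, hP χ, hP χ', hκ, smul_mul_assoc, map_smul, map_smul, eps_Dg, hD]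
  refine eq_of_tr_eq hs.modular hs.odd (linearMap_ext fun g => ?_)
  have hform : ∀ t : IrrCharacter G, tr M t (eL M L θ) = 1 → tr M t (el M g) =
      ∑ x : G, tr M t (eL M L θ * el M (x⁻¹ * g * x) * eL M L θ) := by
    intro t ht
    have e : ∑ x : G, tr M t (el M g * (el M x * eL M L θ * el M x⁻¹)) = tr M t (el M g) := by
      rw [← map_sum, ← Finset.mul_sum, sum_conj hs.modular hs.odd, Finset.mul_sum, map_sum,
        Finset.sum_eq_single t, mul_smul_comm, map_smul, tr_mul_cid hs.modular hs.odd, if_pos rfl,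
        ht, one_smul]
      · intro ψ' _ hne
        rw [mul_smul_comm, map_smul, tr_mul_cid hs.modular hs.odd, if_neg hne.symm, smul_zero]
      · simp
    rw [← e]
    refine Finset.sum_congr rfl fun x _ => ?_
    rw [el_mul, el_mul, tr_mul_comm t (eL M L θ * _) (eL M L θ), ← mul_assoc (eL M L θ) (eL M L θ),
      eL_idem hs.modular hs.odd, tr_mul_comm t (el M g)]
    rw [mul_assoc (el M x * eL M L θ), tr_mul_comm t (el M x * eL M L θ), ← mul_assoc,
      tr_mul_comm t _ (eL M L θ)]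
  rw [hform χ (over_tr_eL hs Y h), hform χ' (over_tr_eL hs Y h')]
  refine Finset.sum_congr rfl fun x _ => ?_
  by_cases hy : x⁻¹ * g * x ∈ stab M (eL M L θ)
  · rw [show eL M L θ * el M (x⁻¹ * g * x) = el M (x⁻¹ * g * x) * eL M L θ from Eq.symm hy,
      mul_assoc, eL_idem hs.modular hs.odd, over_tr_mul hs Y h, over_tr_mul hs Y h']
    exact hmain _ hy
  · rw [eL_el_eL_eq_zero hs.modular hs.odd hy, map_zero, map_zero]

include hs hθ in
/-- Every character of `H` over `θ` is linked to a character meeting `ε`. -/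
theorem exists_over_link (ψ : IrrCharacter H) (hψ : tH M ψ (eL M L θ) ≠ 0) :
    ∃ χ : IrrCharacter G, cid M χ * Y.W.eps ≠ 0 ∧ tr M χ (zi M θ ψ) = 1 := by
  classical
  have hne : Dl hs Y (zi M θ ψ) ≠ 0 := by
    intro h0
    apply hs.zi_ne_zero θ ψ hψ
    ext g
    simp only [coeff_zero, Finsupp.zero_apply]
    by_contra hg
    obtain ⟨hgH, hgT⟩ := hs.supp_zi θ ψ g hg
    have hh := H.inv_mem hgH
    have hT := (stab M (eL M L θ)).inv_mem hgT
    have hsz : Supp0 M H θ (zi M θ ψ * el M g⁻¹) := fun y hy => by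
      rw [coeff_mul_el] at hy
      have h := hs.supp_zi θ ψ _ hy
      rw [inv_inv] at h
      exact ⟨by simpa using H.mul_mem h.1 hh, by simpa using (stab M _).mul_mem h.2 hT⟩
    have h1 : (zi M θ ψ * el M g⁻¹ * Y.W.eps).coeff 1 = 0 := by
      rw [← sum_tr hs.modular hs.odd]
      refine Finset.sum_eq_zero fun t _ => ?_
      rw [tr_mul_eps hs Y t hsz, Dl_mul hs Y (hs.supp_zi θ ψ) (supp_el hh hT), h0, zero_mul,
        map_zero]
    rw [Weyl.eps, Finset.mul_sum, coeff_sum, Finsupp.finsetSum_apply,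
      Finset.sum_eq_single (1 : Sec M K θ), Y.W.w_one, Y.e_eq, mul_assoc,
      show el M g⁻¹ * eL M L θ = eL M L θ * el M g⁻¹ from hT, ← mul_assoc, hs.zi_eL,
      coeff_mul_el, inv_inv, one_mul] at h1
    · exact hg h1
    · intro r _ hr
      by_contra hc
      obtain ⟨x, hx, hx'⟩ := exists_of_coeff_mul_ne_zero hc
      have hxH := (hsz x hx).1
      have hrL := (Y.inU r).1 _ hx'
      rw [mul_one] at hrL
      have h3 : rep r ∈ H := by
        have h4 := H.mul_mem (H.inv_mem (hs.L_le_H hrL)) (H.inv_mem hxH)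
        have e : ((rep r)⁻¹ * x⁻¹)⁻¹ * x⁻¹ = x * rep r * x⁻¹ := by group
        rw [e] at h4
        have h5 := H.mul_mem (H.mul_mem (H.inv_mem hxH) h4) hxH
        simpa [mul_assoc] using h5
      have h6 := hs.H_inf_K h3 (Subgroup.mem_inf.1 (rep_mem r)).1
      refine hr ?_
      rw [← cls_rep r]
      exact (QuotientGroup.eq_one_iff _).2 h6
    · intro h
      exact absurd ((Y.W.mem_Rset).2 Y.W.R.one_mem) h
  obtain ⟨χ, hχ⟩ : ∃ χ, cid M χ * Dl hs Y (zi M θ ψ) ≠ 0 := by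
    by_contra hcon
    push Not at hcon
    apply hne
    rw [← one_mul (Dl hs Y (zi M θ ψ)), ← sum_cid hs.modular hs.odd, Finset.sum_mul]
    exact Finset.sum_eq_zero fun χ _ => hcon χ
  have hov : cid M χ * Y.W.eps ≠ 0 := fun h => hχ (by
    rw [← eps_Dl hs Y, ← mul_assoc, h, zero_mul])
  refine ⟨χ, hov, ?_⟩
  have hd := (dichotomy hs χ (Dl_zi_idem hs Y ψ) (by rw [← Dl_eps hs Y, mul_assoc, eps_mul_eL])
      (by rw [← eps_Dl hs Y, ← mul_assoc, eL_mul_eps]) (Dl_zi_comm hs Y ψ)).resolve_left hχ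
  rw [over_tr_zi hs Y hov, ← hs.tr_cid_mul, hd, hs.tr_cid_mul, over_tr_eL hs Y hov]

end Over

include hs in
theorem autA_zi {θ : IrrCharacter L} (hθ : ∀ s, autA M (φ s) (eL M L θ) = eL M L θ) (s : S)
    (ψ : IrrCharacter H) :
    autA M (φ s) (zi M θ ψ) = zi M θ (compIrr ψ (phiH hs s⁻¹)) := by
  rw [zi, zi, map_mul, hθ, autA_incl hs, autA_cid, map_inv]

include hs in
/-- The correspondence. -/
theorem correspondence :
    (∀ χ : IrrCharacter G, (∀ s, autA M (φ s) (cid M χ) = cid M χ) →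
      ∃! ψ : IrrCharacter H, (∀ s, compIrr ψ (phiH hs s) = ψ) ∧ Odd (mult H χ ψ)) ∧
    (∀ χ χ' : IrrCharacter G, (∀ s, autA M (φ s) (cid M χ) = cid M χ) →
      (∀ s, autA M (φ s) (cid M χ') = cid M χ') → ∀ ψ : IrrCharacter H,
      (∀ s, compIrr ψ (phiH hs s) = ψ) → Odd (mult H χ ψ) → Odd (mult H χ' ψ) → χ = χ') ∧
    (∀ ψ : IrrCharacter H, (∀ s, compIrr ψ (phiH hs s) = ψ) →
      ∃ χ : IrrCharacter G, (∀ s, autA M (φ s) (cid M χ) = cid M χ) ∧ Odd (mult H χ ψ)) := by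
  classical
  haveI : AbSec K L := ⟨hs.comm⟩
  have hM := hs.modular
  -- an invariant character lies over every fixed constituent of an odd invariant character of `H`
  have hunder : ∀ (χ : IrrCharacter G) (θ : IrrCharacter L),
      (∀ s, autA M (φ s) (eL M L θ) = eL M L θ) → tr M χ (eL M L θ) ≠ 0 →
      ∀ ψ : IrrCharacter H, (∀ s, compIrr ψ (phiH hs s) = ψ) → Odd (mult H χ ψ) →
      tH M ψ (eL M L θ) ≠ 0 ∧ tr M χ (zi M θ ψ) ≠ 0 := by
    intro χ θ hθ hχθ ψ hψ hm
    have hm1 : (mult H χ ψ : k M) = 1 := natCast_odd hM hm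
    suffices h : tH M ψ (eL M L θ) ≠ 0 by
      exact ⟨h, by rw [hs.tr_zi, hm1, one_mul]; exact h⟩
    obtain ⟨θ', hθ', hψθ'⟩ := hs.exists_fixed_underH ψ hψ
    have hχθ' : tr M χ (eL M L θ') ≠ 0 := by
      intro h
      have h1 : tr M χ (zi M θ' ψ) = 0 := by
        rw [← hs.zi_eL, ← hs.tr_cid_mul, ← mul_assoc, cid_comm, mul_assoc,
          hs.cid_mul_eL_eq_zero θ' χ h, mul_zero, map_zero]
      rw [hs.tr_zi, hm1, one_mul] at h1
      exact hψθ' h1
    obtain ⟨x, hx⟩ := family_transitive (fun θ : IrrCharacter L => eL M L θ) hM hs.odd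
      (fun _ _ => conj_eL_mul_eq_zero hM hs.odd) (fun θ x => ⟨_, conj_eL L x θ⟩)
      χ θ θ' hχθ hχθ'
    obtain ⟨c, hc, hcx⟩ := hs.exists_C_conj θ hθ (g := x) (fun s => by rw [hx]; exact hθ' s)
    have e : el M c * eL M L θ * el M c⁻¹ = eL M L θ' := hcx.trans hx
    rw [← e, hs.tH_conj ψ (hs.C_le_H hc) (a := eL M L θ)
      (fun g hg => hs.L_le_H (mem_of_coeff_incl_ne_zero hg))] at hψθ'
    exact hψθ'
  have hcompinv : ∀ {χ : IrrCharacter G}, (∀ s, autA M (φ s) (cid M χ) = cid M χ) →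
      ∀ s, compIrr χ (φ s) = χ := by
    intro χ hχ s
    have h := hχ s⁻¹
    rw [autA_cid, map_inv, inv_inv] at h
    exact cid_injective hM hs.odd h
  have hmult : ∀ (χ : IrrCharacter G) (θ : IrrCharacter L) (ψ : IrrCharacter H),
      tr M χ (zi M θ ψ) ≠ 0 → Odd (mult H χ ψ) := by
    intro χ θ ψ h
    rw [hs.tr_zi] at h
    exact odd_of_natCast hM (left_ne_zero_of_mul h)
  refine ⟨fun χ hχ => ?_, fun χ χ' hχ hχ' ψ hψ hm hm' => ?_, fun ψ hψ => ?_⟩
  · obtain ⟨θ, hθ, hχθ⟩ := hs.exists_fixed_under χ hχ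
    obtain ⟨Y⟩ := exists_sys hs θ hθ
    have hov := cid_mul_eps_ne_zero hs Y hχ (fun h => hχθ (by
      rw [← hs.tr_cid_mul, h, map_zero]))
    obtain ⟨ψ₀, h0, h1⟩ := exists_link_char hs Y hov
    have hinv : ∀ s, compIrr ψ₀ (phiH hs s) = ψ₀ := by
      intro s
      by_contra hne
      have h := h1 _ hne
      rw [show s = s⁻¹⁻¹ from (inv_inv s).symm, ← hs.autA_zi hθ, tr_autA, hcompinv hχ, h0] at h
      exact one_ne_zero h
    refine ⟨ψ₀, ⟨hinv, hmult χ θ ψ₀ (by rw [h0]; exact one_ne_zero)⟩, fun ψ ⟨hψ, hm⟩ => ?_⟩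
    by_contra hne
    exact (hunder χ θ hθ hχθ ψ hψ hm).2 (h1 ψ hne)
  · obtain ⟨θ', hθ', hψθ'⟩ := hs.exists_fixed_underH ψ hψ
    have key : ∀ {t : IrrCharacter G}, Odd (mult H t ψ) → tr M t (eL M L θ') ≠ 0 ∧
        tr M t (zi M θ' ψ) ≠ 0 := by
      intro t ht
      have hz : tr M t (zi M θ' ψ) ≠ 0 := by
        rw [hs.tr_zi, natCast_odd hM ht, one_mul]; exact hψθ'
      refine ⟨fun h => hz ?_, hz⟩
      rw [← hs.zi_eL, ← hs.tr_cid_mul, ← mul_assoc, cid_comm, mul_assoc,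
        hs.cid_mul_eL_eq_zero θ' t h, mul_zero, map_zero]
    obtain ⟨Y⟩ := exists_sys hs θ' hθ'
    have ho : ∀ {t : IrrCharacter G}, (∀ s, autA M (φ s) (cid M t) = cid M t) →
        tr M t (eL M L θ') ≠ 0 → cid M t * Y.W.eps ≠ 0 := fun ht h =>
      cid_mul_eps_ne_zero hs Y ht fun h0 => h (by rw [← hs.tr_cid_mul, h0, map_zero])
    exact over_injective hs Y (ho hχ (key hm).1) (ho hχ' (key hm').1) ψ (key hm).2 (key hm').2
  · obtain ⟨θ, hθ, hψθ⟩ := hs.exists_fixed_underH ψ hψ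
    obtain ⟨Y⟩ := exists_sys hs θ hθ
    obtain ⟨χ, hov, hz⟩ := exists_over_link hs Y ψ hψθ
    refine ⟨χ, fun s => ?_, hmult χ θ ψ (by rw [hz]; exact one_ne_zero)⟩
    have hepsS : ∀ t, autA M (φ t) Y.W.eps = Y.W.eps := fun t =>
      Y.W.map_eps (autA M (φ t)) (Y.pres t) (Y.equiv t)
    have hov' : cid M (compIrr χ (φ s)⁻¹) * Y.W.eps ≠ 0 := by
      intro h0
      rw [← autA_cid, ← hepsS s, ← map_mul] at h0
      exact hov ((autA M (φ s)).injective (h0.trans (map_zero _).symm))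
    have hz' : tr M (compIrr χ (φ s)⁻¹) (zi M θ ψ) = 1 := by
      rw [← tr_autA, ← map_inv, hs.autA_zi hθ, hψ, hz]
    have := over_injective hs Y hov' hov ψ (by rw [hz']; exact one_ne_zero)
      (by rw [hz]; exact one_ne_zero)
    rw [autA_cid, this]

end H20.Magic.Setting
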