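import Cfsg.Agent.H20.Block
import Cfsg.Agent.H12.InvConstituents

/-!
# The group algebra of a group of odd order in characteristic two

For `G` of odd order every character degree is `1` in `H20.k M` (`M` over `2`).
`H20.Magic.tr χ` is the reduced character as a functional on the group algebra,
`H20.Magic.cid χ` the reduced central idempotent.
-/

set_option autoImplicit false
set_option linter.style.haveILetI false
set_option linter.unusedSectionVars false

open Cfsg MonoidAlgebra
open H12.Glauberman (mult)
open scoped ComplexConjugate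

namespace H20.Magic

universe u

variable {M : Ideal AlgInt} [hMp : M.IsPrime] {G : Type u} [Group G]

variable (M G) in
/-- The group algebra over the residue field. -/
abbrev GA := MonoidAlgebra (k M) G

variable (M) in
/-- A group element in the group algebra. -/
noncomputable abbrev el (g : G) : GA M G := MonoidAlgebra.of (k M) G g

theorem el_one : el M (1 : G) = 1 := map_one _

theorem el_mul (g h : G) : el M (g * h) = el M g * el M h := map_mul _ g h

theorem el_inv_mul (g : G) : el M g⁻¹ * el M g = 1 := by rw [← el_mul, inv_mul_cancel, el_one]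

theorem el_mul_inv (g : G) : el M g * el M g⁻¹ = 1 := by rw [← el_mul, mul_inv_cancel, el_one]

theorem coeff_el_mul (g : G) (a : GA M G) (x : G) :
    (el M g * a).coeff x = a.coeff (g⁻¹ * x) := by
  simp [el, coeff_single_mul_apply]

theorem coeff_mul_el (a : GA M G) (g : G) (x : G) :
    (a * el M g).coeff x = a.coeff (x * g⁻¹) := by
  simp [el, coeff_mul_single_apply]

theorem eq_sum_el [Fintype G] (a : GA M G) : a = ∑ g : G, a.coeff g • el M g := by
  classical
  ext x
  simp [el, coeff_sum]

/-- A linear map is determined on the group elements. -/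
theorem linearMap_ext [Fintype G] {N : Type*} [AddCommMonoid N] [Module (k M) N]
    {f f' : GA M G →ₗ[k M] N} (h : ∀ g : G, f (el M g) = f' (el M g)) : f = f' := by
  refine LinearMap.ext fun a => ?_
  rw [eq_sum_el a, map_sum, map_sum]
  exact Finset.sum_congr rfl fun g _ => by rw [map_smul, map_smul, h]

variable [Fintype G]

variable (M) in
/-- The reduced character as a functional. -/
noncomputable def tr (χ : IrrCharacter G) : GA M G →ₗ[k M] k M where
  toFun a := ∑ g : G, a.coeff g * redC M ((χ : G → ℂ) g)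
  map_add' a b := by simp [add_mul, Finset.sum_add_distrib]
  map_smul' c a := by simp [Finset.mul_sum, mul_assoc]

theorem tr_apply (χ : IrrCharacter G) (a : GA M G) :
    tr M χ a = ∑ g : G, a.coeff g * redC M ((χ : G → ℂ) g) := rfl

theorem tr_el (χ : IrrCharacter G) (g : G) : tr M χ (el M g) = redC M ((χ : G → ℂ) g) := by
  classical
  simp [tr_apply, el, Finsupp.single_apply]

theorem tr_el_comm (χ : IrrCharacter G) (a : GA M G) (g : G) :
    tr M χ (el M g * a) = tr M χ (a * el M g) := by
  have h : (tr M χ).comp (LinearMap.mulLeft (k M) (el M g)) =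
      (tr M χ).comp (LinearMap.mulRight (k M) (el M g)) := linearMap_ext fun x => by
    simp only [LinearMap.comp_apply, LinearMap.mulLeft_apply, LinearMap.mulRight_apply, ← el_mul,
      tr_el]
    congr 1
    rw [← H12.irr_isClassFunction χ (g * x) x]
    congr 1
    group
  exact LinearMap.congr_fun h a

theorem tr_mul_comm (χ : IrrCharacter G) (a b : GA M G) :
    tr M χ (a * b) = tr M χ (b * a) := by
  have h : (tr M χ).comp (LinearMap.mulRight (k M) b) =
      (tr M χ).comp (LinearMap.mulLeft (k M) b) := linearMap_ext fun x => by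
    simp only [LinearMap.comp_apply, LinearMap.mulLeft_apply, LinearMap.mulRight_apply]
    exact tr_el_comm χ b x
  exact LinearMap.congr_fun h a

theorem tr_conj (χ : IrrCharacter G) (a : GA M G) (g : G) :
    tr M χ (el M g * a * el M g⁻¹) = tr M χ a := by
  rw [tr_mul_comm, ← mul_assoc, el_inv_mul, one_mul]

variable (M) in
/-- The reduced central idempotent of `χ`. -/
noncomputable def cid (χ : IrrCharacter G) : GA M G :=
  ofFun fun g => redC M ((χ : G → ℂ) g⁻¹)

theorem coeff_cid (χ : IrrCharacter G) (g : G) :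
    (cid M χ).coeff g = redC M ((χ : G → ℂ) g⁻¹) := coeff_ofFun _ _

theorem isCl_cid (χ : IrrCharacter G) : IsCl (cid M χ) := fun g h => by
  rw [coeff_cid, coeff_cid]
  congr 1
  rw [show (h * g * h⁻¹)⁻¹ = h * g⁻¹ * h⁻¹ by group]
  exact H12.irr_isClassFunction χ _ _

theorem cid_comm (χ : IrrCharacter G) (a : GA M G) : cid M χ * a = a * cid M χ :=
  (isCl_cid χ).commute a

section Odd

variable (hM : IsPModular 2 M) (hG : Odd (Nat.card G))

include hM in
theorem two_eq_zero : (2 : k M) = 0 := by exact_mod_cast red_p hM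

include hM in
theorem natCast_odd {n : ℕ} (hn : Odd n) : (n : k M) = 1 := by
  obtain ⟨a, rfl⟩ := hn
  push_cast
  rw [two_eq_zero hM, zero_mul, zero_add]

include hM in
theorem natCast_even {n : ℕ} (hn : ¬ Odd n) : (n : k M) = 0 := by
  obtain ⟨a, rfl⟩ := Nat.not_odd_iff_even.1 hn
  push_cast
  rw [← two_mul, two_eq_zero hM, zero_mul]

include hM in
theorem odd_of_natCast {n : ℕ} (hn : (n : k M) ≠ 0) : Odd n := by
  by_contra h
  exact hn (natCast_even hM h)

include hM in
theorem natCast_eq_one_iff {n : ℕ} : (n : k M) = 1 ↔ Odd n :=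
  ⟨fun h => odd_of_natCast hM (by rw [h]; exact one_ne_zero), natCast_odd hM⟩

include hM hG in
theorem card_eq_one : (Fintype.card G : k M) = 1 := by
  rw [← Nat.card_eq_fintype_card]; exact natCast_odd hM hG

include hM hG in
theorem subgroup_card_eq_one (N : Subgroup G) : (Nat.card N : k M) = 1 :=
  natCast_odd hM (hG.of_dvd_nat (Subgroup.card_subgroup_dvd_card N))

include hM hG in
theorem red_degree (χ : IrrCharacter G) : redC M ((χ : G → ℂ) 1) = 1 := by
  rw [H12.irr_apply_one, redC_natCast]
  exact natCast_odd hM (hG.of_dvd_nat (H12.irr_degree_dvd_card χ))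

open scoped Classical in
/-- The generalised orthogonality relation. -/
theorem sum_inv_mul (χ ψ : IrrCharacter G) (c : G) :
    ∑ x : G, (χ : G → ℂ) x⁻¹ * (ψ : G → ℂ) (x * c) =
      if χ = ψ then ((Nat.card G / H12.degree (χ : G → ℂ) : ℕ) : ℂ) * (χ : G → ℂ) c else 0 := by
  obtain ⟨n, ρ, hρ, hψ⟩ := ψ.2
  haveI := hρ
  have hf : IsClassFunction G fun x : G => (χ : G → ℂ) x⁻¹ := fun g h => by
    show (χ : G → ℂ) (h * g * h⁻¹)⁻¹ = (χ : G → ℂ) g⁻¹
    rw [show (h * g * h⁻¹)⁻¹ = h * g⁻¹ * h⁻¹ by group]
    exact H12.irr_isClassFunction χ _ _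
  have hop := congrArg (fun T : Module.End ℂ (Fin n → ℂ) => LinearMap.trace ℂ _ (T * ρ c))
    (H12.avgOp_eq_smul ρ hf)
  simp only [H12.avgOp, Finset.sum_mul, smul_mul_assoc, one_mul, map_sum, map_smul, ← map_mul,
    smul_eq_mul] at hop
  have hl : ∑ x : G, (χ : G → ℂ) x⁻¹ * (ψ : G → ℂ) (x * c) =
      ∑ x : G, (χ : G → ℂ) x⁻¹ * LinearMap.trace ℂ (Fin n → ℂ) (ρ (x * c)) := by
    rw [← hψ]; rfl
  rw [hl, hop]
  have hsum : ∑ g : G, (χ : G → ℂ) g⁻¹ * ρ.character g =
      if χ = ψ then (Nat.card G : ℂ) else 0 := by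
    rw [hψ]
    calc ∑ g : G, (χ : G → ℂ) g⁻¹ * (ψ : G → ℂ) g
        = ∑ g : G, (ψ : G → ℂ) g * conj ((χ : G → ℂ) g) :=
          Finset.sum_congr rfl fun g _ => by rw [H12.irr_inv]; ring
      _ = _ := by
          rw [H12.Glauberman.irr_sum_mul_conj]
          simp only [eq_comm]
  rw [hsum]
  split_ifs with h
  · subst h
    have hdeg : H12.degree (χ : G → ℂ) = Module.finrank ℂ (Fin n → ℂ) := by
      rw [← hψ]; exact H12.degree_character ρ
    rw [Nat.cast_div (H12.irr_degree_dvd_card χ)
      (Nat.cast_ne_zero.2 (H12.irr_degree_pos χ).ne'), hdeg, ← hψ]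
    rfl
  · simp

include hM hG in
open scoped Classical in
theorem red_sum_inv_mul (χ ψ : IrrCharacter G) (c : G) :
    ∑ x : G, redC M ((χ : G → ℂ) x⁻¹) * redC M ((ψ : G → ℂ) (x * c)) =
      if χ = ψ then redC M ((χ : G → ℂ) c) else 0 := by
  rw [Finset.sum_congr rfl fun x _ =>
    (redC_mul (memRing_irr χ x⁻¹) (memRing_irr ψ (x * c))).symm,
    ← redC_sum _ _ fun x _ => memRing_mul (memRing_irr χ _) (memRing_irr ψ _), sum_inv_mul]
  split_ifs with h
  · rw [redC_mul (memRing_natCast _) (memRing_irr χ c), redC_natCast,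
      natCast_odd hM (hG.of_dvd_nat (Nat.div_dvd_of_dvd (H12.irr_degree_dvd_card χ))), one_mul]
  · exact redC_zero

include hM hG in
open scoped Classical in
/-- The second orthogonality relation. -/
theorem red_column (g h : G) :
    ∑ χ : IrrCharacter G, redC M ((χ : G → ℂ) g) * redC M ((χ : G → ℂ) h⁻¹) =
      if IsConj g h then 1 else 0 := by
  rw [Finset.sum_congr rfl fun χ _ =>
    (redC_mul (memRing_irr χ g) (memRing_irr χ h⁻¹)).symm,
    ← redC_sum _ _ fun χ _ => memRing_mul (memRing_irr χ _) (memRing_irr χ _),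
    Finset.sum_congr rfl fun χ _ => by rw [H12.irr_inv χ h], H12.column_orthogonality]
  split_ifs with hc
  · rw [redC_natCast]; exact subgroup_card_eq_one hM hG _
  · exact redC_zero

include hM hG in
open scoped Classical in
theorem sum_red_irr (g : G) :
    ∑ χ : IrrCharacter G, redC M ((χ : G → ℂ) g) = if g = 1 then 1 else 0 := by
  have h := red_column hM hG g 1
  simp only [inv_one, red_degree hM hG, mul_one] at h
  rw [h]
  refine if_congr ⟨fun hc => ?_, fun hc => hc ▸ IsConj.refl _⟩ rfl rfl
  exact isConj_one_left.1 hc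

include hM hG in
theorem sum_tr (a : GA M G) : ∑ χ : IrrCharacter G, tr M χ a = a.coeff 1 := by
  classical
  simp only [tr_apply]
  rw [Finset.sum_comm]
  simp only [← Finset.mul_sum, sum_red_irr hM hG, mul_ite, mul_one, mul_zero, Finset.sum_ite_eq',
    Finset.mem_univ, if_true]

include hM hG in
theorem eq_zero_of_tr {a : GA M G}
    (h : ∀ (χ : IrrCharacter G) (g : G), tr M χ (a * el M g) = 0) : a = 0 := by
  ext x
  have h1 := sum_tr hM hG (a * el M x⁻¹)
  rw [Finset.sum_eq_zero fun χ _ => h χ _, coeff_mul_el, inv_inv, one_mul] at h1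
  simpa using h1.symm

include hM hG in
theorem sum_cid : ∑ χ : IrrCharacter G, cid M χ = 1 := by
  classical
  ext x
  rw [coeff_sum, Finsupp.finsetSum_apply]
  simp only [coeff_cid, sum_red_irr hM hG, inv_eq_one]
  simp [MonoidAlgebra.one_def, Finsupp.single_apply, eq_comm]

include hM hG in
open scoped Classical in
theorem tr_mul_cid (χ ψ : IrrCharacter G) (a : GA M G) :
    tr M χ (a * cid M ψ) = if χ = ψ then tr M χ a else 0 := by
  have h : (tr M χ).comp (LinearMap.mulRight (k M) (cid M ψ)) =
      (if χ = ψ then (1 : k M) else 0) • tr M χ := linearMap_ext fun c => by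
    simp only [LinearMap.comp_apply, LinearMap.mulRight_apply, LinearMap.smul_apply, smul_eq_mul,
      tr_el, ← cid_comm]
    rw [tr_apply, ← Equiv.sum_comp (Equiv.mulRight c)]
    have h := red_sum_inv_mul hM hG ψ χ c
    simp only [Equiv.coe_mulRight, coeff_mul_el, coeff_cid, mul_inv_cancel_right, h]
    rcases eq_or_ne χ ψ with rfl | hne
    · simp
    · simp [hne, Ne.symm hne]
  have := LinearMap.congr_fun h a
  simp only [LinearMap.comp_apply, LinearMap.mulRight_apply, LinearMap.smul_apply, smul_eq_mul]
    at this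
  rw [this]
  split_ifs <;> simp

include hM hG in
open scoped Classical in
theorem tr_cid (χ ψ : IrrCharacter G) :
    tr M χ (cid M ψ) = if χ = ψ then 1 else 0 := by
  have h := tr_mul_cid hM hG χ ψ (1 : GA M G)
  rw [one_mul] at h
  rw [h]
  refine if_congr Iff.rfl ?_ rfl
  rw [← el_one, tr_el, red_degree hM hG]

include hM hG in
open scoped Classical in
theorem cid_mul_cid (χ ψ : IrrCharacter G) :
    cid M χ * cid M ψ = if χ = ψ then cid M χ else 0 := by
  rw [← sub_eq_zero]
  refine eq_zero_of_tr hM hG fun η g => ?_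
  rw [sub_mul, map_sub, sub_eq_zero, mul_assoc, cid_comm ψ, ← mul_assoc, tr_mul_cid hM hG]
  rcases eq_or_ne χ ψ with rfl | hne
  · rw [if_pos rfl, cid_comm, tr_mul_cid hM hG]
    split_ifs <;> rfl
  · rw [if_neg hne, zero_mul, map_zero]
    rcases eq_or_ne η ψ with rfl | h2
    · rw [if_pos rfl, cid_comm, tr_mul_cid hM hG, if_neg hne.symm]
    · rw [if_neg h2]

include hM hG in
theorem cid_idem (χ : IrrCharacter G) : cid M χ * cid M χ = cid M χ := by
  rw [cid_mul_cid hM hG, if_pos rfl]

include hM hG in
theorem cid_ne_zero (χ : IrrCharacter G) : cid M χ ≠ 0 := by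
  intro h
  have := tr_cid hM hG χ χ
  rw [h, map_zero, if_pos rfl] at this
  exact zero_ne_one this

include hM hG in
/-- The reduced character determines the character. -/
theorem eq_of_tr_eq {χ ψ : IrrCharacter G} (h : tr M χ = tr M ψ) : χ = ψ := by
  classical
  by_contra hne
  have h1 := tr_cid hM hG χ ψ
  rw [h, tr_cid hM hG, if_pos rfl, if_neg hne] at h1
  exact one_ne_zero h1

include hM hG in
/-- Averaging over the group. -/
theorem sum_conj (a : GA M G) :
    ∑ g : G, el M g * a * el M g⁻¹ = ∑ χ : IrrCharacter G, tr M χ a • cid M χ := by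
  classical
  let f : GA M G →ₗ[k M] GA M G :=
    ∑ g : G, (LinearMap.mulRight (k M) (el M g⁻¹)).comp (LinearMap.mulLeft (k M) (el M g))
  let f' : GA M G →ₗ[k M] GA M G := ∑ χ : IrrCharacter G, (tr M χ).smulRight (cid M χ)
  have hf : f = f' := linearMap_ext fun h => by
    simp only [f, f', LinearMap.sum_apply, LinearMap.comp_apply, LinearMap.mulLeft_apply,
      LinearMap.mulRight_apply, LinearMap.smulRight_apply, tr_el, ← el_mul]
    ext x
    rw [coeff_sum, coeff_sum, Finsupp.finsetSum_apply, Finsupp.finsetSum_apply]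
    simp only [coeff_smul_apply, smul_eq_mul, coeff_cid, red_column hM hG, el,
      MonoidAlgebra.of_apply, coeff_single, Finsupp.single_apply, Finset.sum_boole]
    split_ifs with hc
    · obtain ⟨c, hc⟩ := isConj_iff.1 hc
      rw [show (Finset.univ.filter fun g : G => g * h * g⁻¹ = x).card =
          Nat.card (Subgroup.centralizer ({h} : Set G)) from ?_]
      · exact subgroup_card_eq_one hM hG _
      rw [Nat.card_eq_fintype_card, ← Fintype.card_coe]
      refine Fintype.card_congr
        ((Equiv.mulLeft c⁻¹).subtypeEquiv fun g => ?_)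
      simp only [Finset.mem_filter, Finset.mem_univ, true_and, Equiv.coe_mulLeft,
        Subgroup.mem_centralizer_singleton_iff, ← hc]
      constructor
      · intro hg
        calc c⁻¹ * g * h = c⁻¹ * (g * h * g⁻¹) * g := by group
          _ = h * (c⁻¹ * g) := by rw [hg]; group
      · intro hg
        calc g * h * g⁻¹ = c * (c⁻¹ * g * h) * g⁻¹ := by group
          _ = c * h * c⁻¹ := by rw [hg]; group
    · rw [Finset.filter_eq_empty_iff.2 fun g _ hg => hc (isConj_iff.2 ⟨g, hg⟩), Finset.card_empty,
        Nat.cast_zero]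
  have := LinearMap.congr_fun hf a
  simpa [f, f'] using this

include hM hG in
/-- An element commuting with the group is the combination of the idempotents. -/
theorem eq_of_central {a : GA M G} (h : ∀ g : G, el M g * a = a * el M g) :
    a = ∑ χ : IrrCharacter G, tr M χ a • cid M χ := by
  rw [← sum_conj hM hG, Finset.sum_congr rfl fun g _ => show el M g * a * el M g⁻¹ = a by
    rw [h, mul_assoc, el_mul_inv, mul_one], Finset.sum_const, Finset.card_univ,
    ← Nat.cast_smul_eq_nsmul (k M), card_eq_one hM hG, one_smul]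

include hM hG in
theorem central_mul_cid {a : GA M G} (h : ∀ g : G, el M g * a = a * el M g) (χ : IrrCharacter G) :
    a * cid M χ = tr M χ a • cid M χ := by
  classical
  conv_lhs => rw [eq_of_central hM hG h]
  rw [Finset.sum_mul, Finset.sum_eq_single χ]
  · rw [smul_mul_assoc, cid_idem hM hG]
  · intro ψ _ hne
    rw [smul_mul_assoc, cid_mul_cid hM hG, if_neg hne, smul_zero]
  · simp

include hM hG in
/-- Two nonzero elements of a block are linked by a group element. -/
theorem exists_link {χ : IrrCharacter G} {z y : GA M G} (hz : z * cid M χ = z)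
    (hy : cid M χ * y = y) (hz0 : z ≠ 0) (hy0 : y ≠ 0) : ∃ g : G, z * el M g * y ≠ 0 := by
  classical
  obtain ⟨g₀, hg₀⟩ : ∃ g, tr M χ (z * el M g) ≠ 0 := by
    by_contra hcon
    push Not at hcon
    refine hz0 (eq_zero_of_tr hM hG fun ψ g => ?_)
    rcases eq_or_ne ψ χ with rfl | hne
    · exact hcon g
    · rw [← hz, mul_assoc, cid_comm, ← mul_assoc, tr_mul_cid hM hG, if_neg hne]
  by_contra hcon
  push Not at hcon
  have h1 : ∑ g : G, el M g * (z * el M g₀) * el M g⁻¹ * y = 0 :=
    Finset.sum_eq_zero fun g _ => by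
      rw [show el M g * (z * el M g₀) * el M g⁻¹ * y = el M g * (z * el M (g₀ * g⁻¹) * y) by
        rw [el_mul]; simp only [mul_assoc], hcon, mul_zero]
  rw [← Finset.sum_mul, sum_conj hM hG, Finset.sum_mul, Finset.sum_eq_single χ, smul_mul_assoc, hy,
    smul_eq_zero] at h1
  · exact h1.elim hg₀ hy0
  · intro ψ _ hne
    rw [← hy, smul_mul_assoc, ← mul_assoc, cid_mul_cid hM hG, if_neg hne, zero_mul, smul_zero]
  · simp

end Odd

/-! ### Subgroups -/

variable (M) in
/-- The inclusion of the algebra of a subgroup. -/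
noncomputable def incl (N : Subgroup G) : GA M N →ₐ[k M] GA M G :=
  MonoidAlgebra.mapDomainAlgHom (k M) (k M) N.subtype

theorem incl_el (N : Subgroup G) (n : N) : incl M N (el M n) = el M (n : G) := by
  simp [incl, el]

theorem incl_eq_sum (N : Subgroup G) [Fintype N] (a : GA M N) :
    incl M N a = ∑ n : N, a.coeff n • el M (n : G) := by
  conv_lhs => rw [eq_sum_el a]
  rw [map_sum]
  simp only [map_smul, incl_el]

theorem coeff_incl (N : Subgroup G) (a : GA M N) (n : N) :
    (incl M N a).coeff n = a.coeff n := by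
  simp [incl, Finsupp.mapDomain_apply Subtype.val_injective]

theorem coeff_incl_notMem (N : Subgroup G) (a : GA M N) {g : G} (hg : g ∉ N) :
    (incl M N a).coeff g = 0 := by
  have : g ∉ Set.range (N.subtype) := by simpa using hg
  show (Finsupp.mapDomain N.subtype a.coeff) g = 0
  exact Finsupp.mapDomain_of_notMem_range _ _ this

theorem tr_incl (N : Subgroup G) [Fintype N] (χ : IrrCharacter G) (a : GA M N) :
    tr M χ (incl M N a) = ∑ β : IrrCharacter N, (mult N χ β : k M) * tr M β a := by
  classical
  have h : (tr M χ).comp (incl M N).toLinearMap =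
      ∑ β : IrrCharacter N, (mult N χ β : k M) • tr M β := linearMap_ext fun n => by
    simp only [LinearMap.comp_apply, AlgHom.toLinearMap_apply, incl_el, LinearMap.sum_apply,
      LinearMap.smul_apply, smul_eq_mul, tr_el, H12.Glauberman.res_apply_eq_sum N χ n]
    rw [redC_sum _ _ fun β _ => memRing_mul (memRing_natCast _) (memRing_irr β n)]
    exact Finset.sum_congr rfl fun β _ => by
      rw [redC_mul (memRing_natCast _) (memRing_irr β n), redC_natCast]
  have := LinearMap.congr_fun h a
  simpa using this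

theorem tr_incl_cid (hM : IsPModular 2 M) {N : Subgroup G} [Fintype N] (hN : Odd (Nat.card N))
    (χ : IrrCharacter G) (β : IrrCharacter N) :
    tr M χ (incl M N (cid M β)) = (mult N χ β : k M) := by
  classical
  rw [tr_incl, Finset.sum_eq_single β]
  · rw [tr_cid hM hN, if_pos rfl, mul_one]
  · intro γ _ hne
    rw [tr_cid hM hN, if_neg hne, mul_zero]
  · simp

theorem odd_mult_iff (hM : IsPModular 2 M) {N : Subgroup G} [Fintype N] (hN : Odd (Nat.card N))
    (χ : IrrCharacter G) (β : IrrCharacter N) :
    Odd (mult N χ β) ↔ tr M χ (incl M N (cid M β)) = 1 := by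
  rw [tr_incl_cid hM hN, natCast_eq_one_iff hM]

/-- In odd order a multiplicity over a normal subgroup is zero or odd. -/
theorem odd_mult_of_ne_zero (hG : Odd (Nat.card G)) {N : Subgroup G} [N.Normal] [Fintype N]
    {χ : IrrCharacter G} {θ : IrrCharacter N} (h : mult N χ θ ≠ 0) : Odd (mult N χ θ) :=
  hG.of_dvd_nat ((H12.InvConst.mult_dvd_degree N h).trans (H12.irr_degree_dvd_card χ))

end H20.Magic
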