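import Cfsg.Agent.H20.Magic.Corner
import Cfsg.Agent.H12.Linear

/-!
# An invariant character lies in the corner of `ε`

The characters of the radical met by an invariant character form one orbit under the fixed points;
fixed points and operators commute and the radical has no fixed point, so the orbit is trivial.
-/

set_option autoImplicit false
set_option linter.style.haveILetI false
set_option linter.unusedSectionVars false

open Cfsg MonoidAlgebra
open H12.Glauberman (mult)

namespace H20.Magic.Setting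

universe u v

variable {M : Ideal AlgInt} [hMp : M.IsPrime]
variable {G : Type u} [Group G] [Fintype G] {S : Type v} [Group S] [Fintype S]
variable {φ : S →* MulAut G} {C K L H : Subgroup G}
variable [K.Normal] [hLn : L.Normal] [Fintype L] [Fintype H] (hs : Setting M φ C K L H)
variable {θ : IrrCharacter L} {hθ : ∀ s, autA M (φ s) (eL M L θ) = eL M L θ}
variable [AbSec K L] (Y : Sys M φ θ (secHom hs θ hθ))

include hs hθ in
/-- An invariant character over `θ` meets `ε`. -/
theorem cid_mul_eps_ne_zero {χ : IrrCharacter G}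
    (hχ : ∀ s, autA M (φ s) (cid M χ) = cid M χ) (hχe : cid M χ * eL M L θ ≠ 0) :
    cid M χ * Y.W.eps ≠ 0 := by
  classical
  letI : Fintype Y.W.R := Fintype.ofFinite _
  have hR : Odd (Nat.card Y.W.R) :=
    (hs.odd_sec θ).of_dvd_nat (Subgroup.card_subgroup_dvd_card _)
  let fR : GA M Y.W.R →ₗ[k M] GA M G :=
    { toFun := fun a => ∑ r, a.coeff r • Y.W.w r
      map_add' := fun a b => by simp [add_smul, Finset.sum_add_distrib]
      map_smul' := fun c a => by simp [Finset.smul_sum, smul_smul] }
  have hfR : ∀ r : Y.W.R, fR (el M r) = Y.W.w r := fun r => by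
    show ∑ x : Y.W.R, (el M r).coeff x • Y.W.w x = _
    simp [el, Finsupp.single_apply]
  have hfRm : ∀ a b, fR (a * b) = fR a * fR b := fun a b => by
    conv_lhs => rw [eq_sum_el a, eq_sum_el b, Finset.sum_mul_sum]
    simp only [map_sum, smul_mul_smul_comm, ← el_mul, map_smul, hfR]
    show _ = (∑ r, a.coeff r • Y.W.w r) * ∑ r, b.coeff r • Y.W.w r
    rw [Finset.sum_mul_sum]
    refine Finset.sum_congr rfl fun x _ => Finset.sum_congr rfl fun y _ => ?_
    rw [smul_mul_smul_comm, Y.W.w_R_mul_w x.2]
    rfl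
  let E : IrrCharacter Y.W.R → GA M G := fun l => fR (cid M l)
  have hsum : ∑ l, E l = eL M L θ := by
    show ∑ l, fR (cid M l) = _
    rw [← map_sum, sum_cid hs.modular hR, ← el_one, hfR]
    exact Y.W.w_one.trans Y.e_eq
  -- automorphisms permuting the system permute the idempotents
  let resR : ∀ (b : Sec M K θ ≃* Sec M K θ), Y.W.Pres b → MulAut Y.W.R := fun b hb =>
    { toFun := fun r => ⟨b r, hb.mem_R.2 r.2⟩
      invFun := fun r => ⟨b.symm r, hb.mem_R.1 (by rw [b.apply_symm_apply]; exact r.2)⟩
      left_inv := fun r => Subtype.ext (b.symm_apply_apply _)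
      right_inv := fun r => Subtype.ext (b.apply_symm_apply _)
      map_mul' := fun p q => Subtype.ext (map_mul b (p : Sec M K θ) q) }
  have hFE : ∀ (F : GA M G ≃ₐ[k M] GA M G) (b : Sec M K θ ≃* Sec M K θ) (hb : Y.W.Pres b),
      (∀ v, F (Y.W.w v) = Y.W.w (b v)) → ∀ l, F (E l) = E (compIrr l (resR b hb)⁻¹) := by
    intro F b hb hF l
    have h : F.toLinearMap.comp fR = fR.comp (autA M (resR b hb)).toLinearMap :=
      linearMap_ext fun r => by
        simp only [LinearMap.comp_apply, AlgEquiv.toLinearMap_apply, hfR, autA_el, hF]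
        rfl
    have h' := LinearMap.congr_fun h (cid M l)
    simp only [LinearMap.comp_apply, AlgEquiv.toLinearMap_apply, autA_cid] at h'
    exact h'
  have hEe : ∀ l, eL M L θ * E l = E l := fun l => by
    show eL M L θ * ∑ r, (cid M l).coeff r • Y.W.w r = ∑ r, (cid M l).coeff r • Y.W.w r
    rw [Finset.mul_sum]
    exact Finset.sum_congr rfl fun r _ => by rw [mul_smul_comm, ← Y.e_eq, Y.W.e_mul]
  have hEe' : ∀ l, E l * eL M L θ = E l := fun l => by
    show (∑ r, (cid M l).coeff r • Y.W.w r) * eL M L θ = ∑ r, (cid M l).coeff r • Y.W.w r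
    rw [Finset.sum_mul]
    exact Finset.sum_congr rfl fun r _ => by rw [smul_mul_assoc, ← Y.e_eq, Y.W.mul_e]
  have hK1 : ∀ (l : IrrCharacter Y.W.R) (y : G), y ∈ K1 M K θ →
      el M y * E l = E l * el M y := by
    intro l y hy
    have hyT := (Subgroup.mem_inf.1 hy).2
    obtain ⟨b, hb, hbe⟩ := K1_decomp hs Y hy
    show el M y * ∑ r, (cid M l).coeff r • Y.W.w r = (∑ r, (cid M l).coeff r • Y.W.w r) * el M y
    rw [Finset.mul_sum, Finset.sum_mul]
    refine Finset.sum_congr rfl fun r _ => ?_
    rw [mul_smul_comm, smul_mul_assoc]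
    congr 1
    calc el M y * Y.W.w r = el M y * eL M L θ * Y.W.w r := by
          rw [mul_assoc, ← Y.e_eq, Y.W.e_mul]
      _ = Y.W.w (cls hy) * Y.W.w r * b := by
          rw [hbe, mul_assoc, supp_L_comm hb fun _ hl => el_w_comm hs Y hl _, ← mul_assoc]
      _ = Y.W.w r * (Y.W.w (cls hy) * b) := by
          rw [Y.W.w_mul_w_R _ r.2, mul_comm, ← Y.W.w_R_mul_w r.2, mul_assoc]
      _ = Y.W.w r * (eL M L θ * el M y) := by
          rw [← hbe, show el M y * eL M L θ = _ from hyT]
      _ = Y.W.w r * el M y := by rw [← mul_assoc, ← Y.e_eq, Y.W.mul_e]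
  -- the idempotents met by `χ` are conjugate under the fixed points
  have htrans : ∀ l m, cid M χ * E l ≠ 0 → cid M χ * E m ≠ 0 →
      ∃ c : G, ∃ hc : c ∈ C, ∃ hcT : c ∈ stab M (eL M L θ),
        l = compIrr m (resR _ (conj_w_C hs Y hc hcT).1)⁻¹ := by
    intro l m hl hm
    have hz : cid M χ * E l * cid M χ = cid M χ * E l := by
      rw [mul_assoc, ← cid_comm, ← mul_assoc, cid_idem hs.modular hs.odd]
    have hy : cid M χ * (cid M χ * E m) = cid M χ * E m := by
      rw [← mul_assoc, cid_idem hs.modular hs.odd]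
    obtain ⟨g, hg⟩ := exists_link hs.modular hs.odd hz hy hl hm
    have hgT : g ∈ stab M (eL M L θ) := by
      by_contra h
      apply hg
      calc cid M χ * E l * el M g * (cid M χ * E m)
          = cid M χ * (E l * eL M L θ) * el M g * ((eL M L θ * E m) * cid M χ) := by
            rw [hEe, hEe', cid_comm χ (E m)]
        _ = cid M χ * E l * (eL M L θ * el M g * eL M L θ) * (E m * cid M χ) := by
            simp only [mul_assoc]
        _ = 0 := by rw [eL_el_eL_eq_zero hs.modular hs.odd h, mul_zero, zero_mul]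
    obtain ⟨y, hy1, c, hc', rfl⟩ := hs.stab_decomp θ hθ hgT
    obtain ⟨hc, hcT⟩ := Subgroup.mem_inf.1 hc'
    refine ⟨c, hc, hcT, ?_⟩
    have hcE := hFE (autA M (MulAut.conj c)) _ (conj_w_C hs Y hc hcT).1
      (conj_w_C hs Y hc hcT).2 m
    rw [autA_conj] at hcE
    by_contra hne
    apply hg
    calc cid M χ * E l * el M (y * c) * (cid M χ * E m)
        = cid M χ * (E l * el M y) * el M c * (E m * cid M χ) := by
          rw [el_mul, cid_comm χ (E m)]; simp only [mul_assoc]
      _ = cid M χ * el M y * (E l * (el M c * E m)) * cid M χ := by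
          rw [← hK1 l y hy1]; simp only [mul_assoc]
      _ = 0 := by
          rw [show el M c * E m = el M c * E m * el M c⁻¹ * el M c by
            rw [mul_assoc _ (el M c⁻¹), el_inv_mul, mul_one], hcE, ← mul_assoc (E l)]
          rw [show E l * E (compIrr m (resR _ (conj_w_C hs Y hc hcT).1)⁻¹) = 0 by
            rw [← hfRm, cid_mul_cid hs.modular hR, if_neg hne, map_zero]]
          simp
  obtain ⟨l, hl⟩ : ∃ l, cid M χ * E l ≠ 0 := by
    by_contra hcon
    push Not at hcon
    apply hχe
    rw [← hsum, Finset.mul_sum]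
    exact Finset.sum_eq_zero fun l _ => hcon l
  obtain ⟨f, hf⟩ := H12.exists_monoidHom_of_apply_one_eq_one (H12.isCharacter_irr l)
    (H12.irr_apply_one_of_comm (fun a b : Y.W.R => mul_comm a b) l)
  have hfl : ∀ r, (l : Y.W.R → ℂ) r = (f r : ℂ) := fun r => (congrFun hf r).symm
  have hlmul : ∀ p q : Y.W.R,
      redC M ((l : Y.W.R → ℂ) (p * q)) = redC M ((l : Y.W.R → ℂ) p) * redC M ((l : Y.W.R → ℂ) q) := by
    intro p q
    rw [← redC_mul (memRing_irr l p) (memRing_irr l q), hfl, hfl, hfl, map_mul, Units.val_mul]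
  let lR : Y.W.R →* k M :=
    { toFun := fun r => redC M ((l : Y.W.R → ℂ) r)
      map_one' := by rw [hfl, map_one, Units.val_one, redC_one]
      map_mul' := hlmul }
  let g : Sec M K θ → k M := fun v => if h : v ∈ Y.W.R then lR ⟨v, h⟩ else 0
  have key : ∀ (s : S) (v : Sec M K θ), g (secHom hs θ hθ s v) = g v := by
    intro s
    -- the operator `s⁻¹` moves `l` to a conjugate
    have hm : cid M χ * E (compIrr l (resR _ (Y.pres s⁻¹))⁻¹) ≠ 0 := by
      intro h0
      have h := hFE (autA M (φ s⁻¹)) _ (Y.pres s⁻¹) (Y.equiv s⁻¹) l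
      rw [← h, ← hχ s⁻¹, ← map_mul] at h0
      exact hl ((autA M (φ s⁻¹)).injective (h0.trans (map_zero _).symm))
    obtain ⟨c, hc, hcT, hlc⟩ := htrans l _ hl hm
    set β := stabHom M K θ ⟨c, hcT⟩ with hβ
    set σ := secHom hs θ hθ s with hσ
    have hpb : Y.W.Pres β := (conj_w_C hs Y hc hcT).1
    have h1 : ∀ v, g (β v) = g (σ v) := by
      intro v
      by_cases hv : v ∈ Y.W.R
      · have hσv : σ v ∈ Y.W.R := (Y.pres s).mem_R.2 hv
        simp only [g]
        rw [dif_pos (hpb.mem_R.2 hv), dif_pos hσv]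
        show redC M _ = redC M _
        congr 1
        have e := congrArg (fun x : IrrCharacter Y.W.R =>
          (x : Y.W.R → ℂ) ⟨β v, hpb.mem_R.2 hv⟩) hlc
        refine e.trans ?_
        simp only [compIrr_apply]
        refine congrArg (l : Y.W.R → ℂ) ?_
        apply Subtype.ext
        show (secHom hs θ hθ s⁻¹).symm (β.symm (β v)) = σ v
        rw [MulEquiv.symm_apply_apply, hσ, map_inv]
        rfl
      · have hσv : σ v ∉ Y.W.R := fun h => hv ((Y.pres s).mem_R.1 h)
        simp only [g]
        rw [dif_neg fun h => hv (hpb.mem_R.1 h), dif_neg hσv]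
    have hcomm : ∀ v, β (σ v) = σ (β v) := by
      intro v
      rw [← cls_rep v, hβ, hσ, secHom_cls, stabHom_cls, stabHom_cls, secHom_cls]
      congr 1
      simp [(hs.mem_C c).1 hc s]
    have hiter : ∀ (n : ℕ) (v : Sec M K θ), g ((β ^ n) v) = g ((σ ^ n) v) := by
      intro n
      induction n with
      | zero => exact fun v => rfl
      | succ n ih =>
        intro v
        have hn : (β ^ n) (σ v) = σ ((β ^ n) v) := by
          have : Commute (β ^ n) σ := (Commute.pow_left (MulEquiv.ext hcomm) n)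
          exact MulEquiv.congr_fun this v
        rw [pow_succ σ, MulAut.mul_apply, ← ih, hn, ← h1, pow_succ' β, MulAut.mul_apply]
    let St : Subgroup (MulAut (Sec M K θ)) :=
      { carrier := {γ | ∀ v, g (γ v) = g v}
        one_mem' := fun v => rfl
        mul_mem' := fun {p q} hp hq v => by rw [MulAut.mul_apply, hp, hq]
        inv_mem' := fun {p} hp v => by
          conv_rhs => rw [← p.apply_symm_apply v, hp]
          rfl }
    have hmem : β ^ Nat.card S ∈ St := fun v => by
      rw [hiter, hσ, ← map_pow, pow_card_eq_one', map_one]; rfl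
    have hord : (Nat.card S).Coprime (orderOf β) :=
      hs.coprime.symm.coprime_dvd_right ((orderOf_map_dvd (stabHom M K θ) ⟨c, hcT⟩).trans
        ((orderOf_dvd_natCard _).trans (Subgroup.card_subgroup_dvd_card _)))
    obtain ⟨m, hm'⟩ := exists_pow_eq_self_of_coprime hord
    have hβSt : β ∈ St := hm' ▸ St.pow_mem hmem m
    intro v
    rw [← h1]
    exact hβSt v
  have htriv : ∀ r : Y.W.R, lR r = 1 := by
    intro r
    let y : S → Y.W.R := fun s => ⟨secHom hs θ hθ s r, (Y.pres s).mem_R.2 r.2⟩
    have hy : ∏ s, y s = 1 := by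
      apply Subtype.ext
      rw [Subgroup.val_finsetProd, OneMemClass.coe_one]
      refine secHom_free hs θ hθ _ fun t => ?_
      rw [map_prod]
      refine Fintype.prod_equiv (Equiv.mulLeft t) _ _ fun s => ?_
      show secHom hs θ hθ t (secHom hs θ hθ s r) = secHom hs θ hθ (t * s) r
      rw [map_mul, MulAut.mul_apply]
    have h1 : lR r ^ Nat.card S = 1 := by
      have h := congrArg lR hy
      rw [map_prod, map_one, Finset.prod_congr rfl fun s _ => show lR (y s) = lR r by
        have := key s r
        simp only [g, dif_pos ((Y.pres s).mem_R.2 r.2), dif_pos r.2, Subtype.coe_eta] at this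
        exact this, Finset.prod_const, Finset.card_univ, ← Nat.card_eq_fintype_card] at h
      exact h
    have h2 : lR r ^ Nat.card Y.W.R = 1 := by rw [← map_pow, pow_card_eq_one', map_one]
    have h := pow_gcd_eq_one.2 ⟨h1, h2⟩
    rw [(hs.coprime_sec θ).coprime_dvd_right (Subgroup.card_subgroup_dvd_card _), pow_one] at h
    exact h
  have hE : E l = Y.W.eps := by
    show ∑ r : Y.W.R, (cid M l).coeff r • Y.W.w r = ∑ r ∈ Y.W.Rset, Y.W.w r
    rw [Finset.sum_congr rfl fun (r : Y.W.R) _ => show (cid M l).coeff r • Y.W.w r = Y.W.w r by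
      rw [coeff_cid, show redC M ((l : Y.W.R → ℂ) r⁻¹) = 1 from htriv r⁻¹, one_smul]]
    exact (Finset.sum_subtype Y.W.Rset (fun x => Y.W.mem_Rset) Y.W.w).symm
  rwa [hE] at hl

end H20.Magic.Setting
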