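import Cfsg.Agent.H23.Points
import Mathlib.Algebra.Algebra.Subalgebra.Lattice
import Mathlib.GroupTheory.OrderOfElement
import Mathlib.LinearAlgebra.Pi
import Mathlib.Tactic

/-!
# Weyl systems in characteristic two

A twisted group algebra of an abelian group of odd order inside an algebra over a field of
characteristic two can be normalised so that its cocycle is bimultiplicative and skew.  For such a
system `W` the elements `W.X a` implement the automorphisms `a` of the group preserving the cocycle,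
and `X (a * b) = X a * X b` holds exactly.
-/

set_option autoImplicit false
set_option linter.style.haveILetI false
set_option linter.unusedSectionVars false

namespace H20.Magic

universe u v w

theorem eq_one_of_mul_self {K : Type v} [Field K] (h2 : (2 : K) = 0) {a : K} (h : a * a = 1) :
    a = 1 := by
  have h' : (a - 1) * (a - 1) = 0 := by linear_combination h + (1 - a) * h2
  rcases mul_eq_zero.1 h' with h' | h' <;> exact sub_eq_zero.1 h'

theorem eq_one_of_inv_eq {V : Type u} [Group V] [Finite V] (hodd : Odd (Nat.card V)) {p : V}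
    (h : p⁻¹ = p) : p = 1 := by
  have h2 : p ^ 2 = 1 := by
    rw [pow_two]
    nth_rewrite 1 [← h]
    exact inv_mul_cancel p
  have h1 : orderOf p ∣ Nat.gcd 2 (Nat.card V) :=
    Nat.dvd_gcd (orderOf_dvd_of_pow_eq_one h2) (orderOf_dvd_natCard p)
  rw [Nat.coprime_two_left.2 hodd] at h1
  exact orderOf_eq_one_iff.1 (Nat.dvd_one.1 h1)

/-- A sum invariant under inversion is its value at `1`. -/
theorem sum_eq_apply_one {V : Type u} [Group V] [Fintype V] (hodd : Odd (Nat.card V))
    {K : Type v} [Field K] (h2 : (2 : K) = 0) {A : Type w} [AddCommGroup A] [Module K A]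
    (F : V → A) (hF : ∀ p, F p⁻¹ = F p) : ∑ p, F p = F 1 := by
  classical
  rw [← Finset.add_sum_erase _ _ (Finset.mem_univ (1 : V)), add_eq_left]
  refine Finset.sum_involution (fun p _ => p⁻¹) (fun p _ => ?_) (fun p hp _ h => ?_)
    (fun p hp => ?_) (fun p _ => inv_inv p)
  · rw [hF, ← two_smul K (F p), h2, zero_smul]
  · exact Finset.ne_of_mem_erase hp (eq_one_of_inv_eq hodd h)
  · exact Finset.mem_erase.2 ⟨fun h => Finset.ne_of_mem_erase hp (inv_eq_one.1 h),
      Finset.mem_univ _⟩

variable {K : Type v} [Field K] {A : Type w} [Ring A] [Algebra K A]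
variable {V : Type u} [CommGroup V] [Fintype V]

variable (K A V) in
/-- A normalised twisted group algebra of `V`. -/
structure Weyl where
  e : A
  w : V → A
  σ : V → V → K
  w_one : w 1 = e
  e_mul : ∀ x, e * w x = w x
  mul_e : ∀ x, w x * e = w x
  e_ne_zero : e ≠ 0
  mul_w : ∀ x y, w x * w y = σ x y • w (x * y)
  σ_mul : ∀ x y z, σ (x * y) z = σ x z * σ y z
  σ_swap : ∀ x y, σ x y * σ y x = 1

namespace Weyl

variable (W : Weyl K A V)

theorem σ_ne_zero (x y : V) : W.σ x y ≠ 0 := left_ne_zero_of_mul_eq_one (W.σ_swap x y)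

theorem σ_one_left (z : V) : W.σ 1 z = 1 := by
  have h := W.σ_mul 1 1 z
  rw [mul_one] at h
  exact (mul_eq_left₀ (W.σ_ne_zero 1 z)).1 h.symm

theorem σ_one_right (z : V) : W.σ z 1 = 1 := by
  simpa [W.σ_one_left] using W.σ_swap 1 z

theorem σ_mul_right (x y z : V) : W.σ x (y * z) = W.σ x y * W.σ x z := by
  have h := W.σ_swap x (y * z)
  rw [W.σ_mul] at h
  have h2 : W.σ x y * W.σ x z * (W.σ y x * W.σ z x) = 1 := by
    linear_combination (W.σ x z * W.σ z x) * W.σ_swap x y + W.σ_swap x z
  exact mul_right_cancel₀ (mul_ne_zero (W.σ_ne_zero y x) (W.σ_ne_zero z x)) (h.trans h2.symm)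

theorem σ_inv_left (x y : V) : W.σ x⁻¹ y = W.σ y x := by
  have h := W.σ_mul x⁻¹ x y
  rw [inv_mul_cancel, W.σ_one_left] at h
  exact mul_right_cancel₀ (W.σ_ne_zero x y) (h.symm.trans ((mul_comm _ _).trans (W.σ_swap x y)).symm)

theorem σ_inv_right (x y : V) : W.σ x y⁻¹ = W.σ y x := by
  have h := W.σ_mul_right x y⁻¹ y
  rw [inv_mul_cancel, W.σ_one_right] at h
  exact mul_right_cancel₀ (W.σ_ne_zero x y) (h.symm.trans ((mul_comm _ _).trans (W.σ_swap x y)).symm)

theorem σ_inv_inv (x y : V) : W.σ x⁻¹ y⁻¹ = W.σ x y := by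
  rw [W.σ_inv_left, W.σ_inv_left]

variable (h2 : (2 : K) = 0) (hodd : Odd (Nat.card V))

include h2 in
theorem σ_self (x : V) : W.σ x x = 1 := eq_one_of_mul_self h2 (W.σ_swap x x)

/-- The radical. -/
def R : Subgroup V where
  carrier := {x | ∀ y, W.σ x y = 1}
  one_mem' := W.σ_one_left
  mul_mem' := fun {a b} ha hb y => by rw [W.σ_mul, ha y, hb y, one_mul]
  inv_mem' := fun {a} ha y => by
    rw [W.σ_inv_left]
    simpa [ha y] using W.σ_swap a y

theorem mem_R {x : V} : x ∈ W.R ↔ ∀ y, W.σ x y = 1 := Iff.rfl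

theorem σ_R_left {r : V} (hr : r ∈ W.R) (y : V) : W.σ r y = 1 := hr y

theorem σ_R_right {r : V} (hr : r ∈ W.R) (y : V) : W.σ y r = 1 := by
  simpa [W.σ_R_left hr y] using W.σ_swap r y

open scoped Classical in
/-- The radical as a finite set. -/
noncomputable def Rset : Finset V := Finset.univ.filter (· ∈ W.R)

theorem mem_Rset {x : V} : x ∈ W.Rset ↔ x ∈ W.R := by simp [Rset]

include h2 hodd in
theorem card_Rset : (W.Rset.card : K) = 1 := by
  have h : W.Rset.card = Nat.card W.R := by
    rw [← Nat.card_eq_finsetCard]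
    exact Nat.card_congr (Equiv.subtypeEquivRight fun x => W.mem_Rset)
  obtain ⟨a, ha⟩ := hodd.of_dvd_nat (Subgroup.card_subgroup_dvd_card W.R)
  rw [h, ha]
  push_cast
  rw [h2, zero_mul, zero_add]

/-- The idempotent of the trivial character of the radical. -/
noncomputable def eps : A := ∑ r ∈ W.Rset, W.w r

theorem w_mul_w_R (x : V) {r : V} (hr : r ∈ W.R) : W.w x * W.w r = W.w (x * r) := by
  rw [W.mul_w, W.σ_R_right hr, one_smul]

theorem w_R_mul_w {r : V} (hr : r ∈ W.R) (x : V) : W.w r * W.w x = W.w (r * x) := by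
  rw [W.mul_w, W.σ_R_left hr, one_smul]

theorem w_R_mul_eps {r : V} (hr : r ∈ W.R) : W.w r * W.eps = W.eps := by
  rw [eps, Finset.mul_sum]
  refine Finset.sum_equiv (Equiv.mulLeft r) (fun s => ?_) (fun s _ => W.w_R_mul_w hr s)
  simp only [W.mem_Rset, Equiv.coe_mulLeft]
  exact (W.R.mul_mem_cancel_left hr).symm

theorem eps_comm (x : V) : W.eps * W.w x = W.w x * W.eps := by
  rw [eps, Finset.mul_sum, Finset.sum_mul]
  exact Finset.sum_congr rfl fun r hr => by
    rw [W.w_R_mul_w (W.mem_Rset.1 hr), W.w_mul_w_R x (W.mem_Rset.1 hr), mul_comm]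

theorem eps_mul_e : W.eps * W.e = W.eps := by
  rw [← W.w_one, W.eps_comm, W.w_R_mul_eps W.R.one_mem]

theorem e_mul_eps : W.e * W.eps = W.eps := by
  rw [← W.w_one, W.w_R_mul_eps W.R.one_mem]

include h2 hodd in
theorem eps_idem : W.eps * W.eps = W.eps := by
  rw [show W.eps * W.eps = ∑ r ∈ W.Rset, W.w r * W.eps from Finset.sum_mul _ _ _,
    Finset.sum_congr rfl fun r hr => W.w_R_mul_eps (W.mem_Rset.1 hr), Finset.sum_const,
    ← Nat.cast_smul_eq_nsmul K, W.card_Rset h2 hodd, one_smul]

/-- The system on the corner. -/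
noncomputable def cw (x : V) : A := W.w x * W.eps

theorem cw_R {r : V} (hr : r ∈ W.R) : W.cw r = W.eps := W.w_R_mul_eps hr

theorem cw_one : W.cw 1 = W.eps := W.cw_R W.R.one_mem

theorem cw_mul_R (x : V) {r : V} (hr : r ∈ W.R) : W.cw (x * r) = W.cw x := by
  rw [cw, cw, ← W.w_mul_w_R x hr, mul_assoc, W.w_R_mul_eps hr]

include h2 hodd in
theorem cw_mul (x y : V) : W.cw x * W.cw y = W.σ x y • W.cw (x * y) := by
  rw [cw, cw, cw, ← smul_mul_assoc, ← W.mul_w]
  calc W.w x * W.eps * (W.w y * W.eps) = W.w x * (W.eps * W.w y) * W.eps := by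
        simp only [mul_assoc]
    _ = W.w x * W.w y * (W.eps * W.eps) := by rw [W.eps_comm]; simp only [mul_assoc]
    _ = _ := by rw [W.eps_idem h2 hodd]

include h2 hodd in
theorem cw_mul_eps (x : V) : W.cw x * W.eps = W.cw x := by
  rw [cw, mul_assoc, W.eps_idem h2 hodd]

include h2 hodd in
theorem eps_mul_cw (x : V) : W.eps * W.cw x = W.cw x := by
  rw [cw, ← mul_assoc, W.eps_comm, mul_assoc, W.eps_idem h2 hodd]

include h2 hodd in
theorem cw_mul_cw_inv (x : V) : W.cw x * W.cw x⁻¹ = W.eps := by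
  rw [W.cw_mul h2 hodd, mul_inv_cancel, W.cw_one, W.σ_inv_right, W.σ_self h2, one_smul]

include h2 hodd in
theorem cw_inv_mul_cw (x : V) : W.cw x⁻¹ * W.cw x = W.eps := by
  simpa using W.cw_mul_cw_inv h2 hodd x⁻¹

/-- Averaging over the system. -/
noncomputable def P : A →ₗ[K] A :=
  ∑ y : V, (LinearMap.mulRight K (W.cw y⁻¹)).comp (LinearMap.mulLeft K (W.cw y))

theorem P_apply (z : A) : W.P z = ∑ y : V, W.cw y * z * W.cw y⁻¹ := by simp [P]

include h2 hodd in
open scoped Classical in
theorem P_cw (v : V) : W.P (W.cw v) = if v ∈ W.R then W.eps else 0 := by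
  rw [W.P_apply]
  have h : ∀ y : V, W.cw y * W.cw v * W.cw y⁻¹ = (W.σ y v * W.σ y v) • W.cw v := by
    intro y
    rw [W.cw_mul h2 hodd, smul_mul_assoc, W.cw_mul h2 hodd, smul_smul, mul_inv_cancel_comm,
      W.σ_mul, W.σ_inv_right y y, W.σ_inv_right v y, W.σ_self h2, one_mul]
  rw [Finset.sum_congr rfl fun y _ => h y, ← Finset.sum_smul]
  let f : V →* K :=
    { toFun := fun y => W.σ y v * W.σ y v
      map_one' := by rw [W.σ_one_left, one_mul]
      map_mul' := fun a b => by rw [W.σ_mul]; ring }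
  split_ifs with hv
  · rw [Finset.sum_congr rfl fun y _ => show W.σ y v * W.σ y v = 1 by
      rw [W.σ_R_right hv, one_mul], Finset.sum_const, Finset.card_univ, nsmul_eq_mul, mul_one,
      W.cw_R hv]
    obtain ⟨a, ha⟩ := hodd
    rw [← Nat.card_eq_fintype_card, ha]
    push_cast
    rw [h2, zero_mul, zero_add, one_smul]
  · have hf : f ≠ 1 := by
      intro hf
      refine hv fun y => eq_one_of_mul_self h2 ?_
      have h1 : W.σ y v * W.σ y v = 1 := DFunLike.congr_fun hf y
      linear_combination (W.σ v y * W.σ y v + 1) * W.σ_swap v y - (W.σ v y * W.σ v y) * h1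
    rw [show ∑ y : V, W.σ y v * W.σ y v = 0 from sum_hom_units_eq_zero f hf, zero_smul]

include h2 hodd in
/-- Averaging fixes what commutes with the system. -/
theorem P_eq_self {z : A} (hc : ∀ x, W.cw x * z = z * W.cw x) (hz : z * W.eps = z) :
    W.P z = z := by
  rw [W.P_apply, Finset.sum_congr rfl fun y _ => show W.cw y * z * W.cw y⁻¹ = z by
    rw [hc, mul_assoc, W.cw_mul_cw_inv h2 hodd, hz], Finset.sum_const, Finset.card_univ,
    ← Nat.cast_smul_eq_nsmul K]
  obtain ⟨a, ha⟩ := hodd
  rw [← Nat.card_eq_fintype_card, ha]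
  push_cast
  rw [h2, zero_mul, zero_add, one_smul]

theorem P_mul {c : A} (hc : ∀ x, W.cw x * c = c * W.cw x) (z : A) :
    W.P (z * c) = W.P z * c := by
  rw [W.P_apply, W.P_apply, Finset.sum_mul]
  refine Finset.sum_congr rfl fun y _ => ?_
  simp only [mul_assoc, hc]

include h2 hodd in
theorem tr_P (t : A →ₗ[K] K) (ht : ∀ a b, t (a * b) = t (b * a)) (z : A) :
    t (W.P z) = t (z * W.eps) := by
  rw [W.P_apply, map_sum, Finset.sum_congr rfl fun y _ => show
    t (W.cw y * z * W.cw y⁻¹) = t (z * W.eps) by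
      rw [mul_assoc, ht, mul_assoc, W.cw_inv_mul_cw h2 hodd], Finset.sum_const, Finset.card_univ,
    nsmul_eq_mul]
  obtain ⟨a, ha⟩ := hodd
  rw [← Nat.card_eq_fintype_card, ha]
  push_cast
  rw [h2, zero_mul, zero_add, one_mul]

include h2 hodd in
open scoped Classical in
theorem tr_cw_mul (t : A →ₗ[K] K) (ht : ∀ a b, t (a * b) = t (b * a)) (v : V) {c : A}
    (hc : ∀ x, W.cw x * c = c * W.cw x) (hcε : c * W.eps = c) (hεc : W.eps * c = c) :
    t (W.cw v * c) = if v ∈ W.R then t c else 0 := by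
  conv_lhs => rw [← show W.cw v * c * W.eps = W.cw v * c by rw [mul_assoc, hcε]]
  rw [← W.tr_P h2 hodd t ht, W.P_mul hc, W.P_cw h2 hodd]
  split_ifs
  · rw [hεc]
  · rw [zero_mul, map_zero]

/-- Preservation of the cocycle. -/
def Pres (a : V ≃* V) : Prop := ∀ x y, W.σ (a x) (a y) = W.σ x y

theorem Pres.mul {W : Weyl K A V} {a b : V ≃* V} (ha : W.Pres a) (hb : W.Pres b) :
    W.Pres (a * b) := fun x y => (ha (b x) (b y)).trans (hb x y)

theorem pres_one : W.Pres 1 := fun _ _ => rfl

theorem Pres.inv {W : Weyl K A V} {a : V ≃* V} (ha : W.Pres a) : W.Pres a⁻¹ := fun x y => by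
  have := ha (a⁻¹ x) (a⁻¹ y)
  rw [← MulAut.mul_apply, ← MulAut.mul_apply, mul_inv_cancel, MulAut.one_apply,
    MulAut.one_apply] at this
  exact this.symm

theorem Pres.mem_R {W : Weyl K A V} {a : V ≃* V} (ha : W.Pres a) {x : V} :
    a x ∈ W.R ↔ x ∈ W.R := by
  constructor
  · intro h y
    rw [← ha]; exact h _
  · intro h y
    have := ha x (a⁻¹ y)
    rw [show a (a⁻¹ y) = y from a.apply_symm_apply y] at this
    exact this.trans (h _)

/-- The element implementing an automorphism. -/
noncomputable def X (a : V ≃* V) : A := ∑ x : V, W.cw (a x) * W.cw x⁻¹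

include h2 hodd in
theorem X_one : W.X 1 = W.eps := by
  rw [X, Finset.sum_congr rfl fun x _ => show W.cw ((1 : V ≃* V) x) * W.cw x⁻¹ = W.eps from
    W.cw_mul_cw_inv h2 hodd x, Finset.sum_const, Finset.card_univ, ← Nat.cast_smul_eq_nsmul K]
  obtain ⟨a, ha⟩ := hodd
  rw [← Nat.card_eq_fintype_card, ha]
  push_cast
  rw [h2, zero_mul, zero_add, one_smul]

include h2 hodd in
theorem X_mul_eps (a : V ≃* V) : W.X a * W.eps = W.X a := by
  rw [X, Finset.sum_mul]
  exact Finset.sum_congr rfl fun x _ => by rw [mul_assoc, W.cw_mul_eps h2 hodd]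

include h2 hodd in
theorem eps_mul_X (a : V ≃* V) : W.eps * W.X a = W.X a := by
  rw [X, Finset.mul_sum]
  exact Finset.sum_congr rfl fun x _ => by rw [← mul_assoc, W.eps_mul_cw h2 hodd]

include h2 hodd in
theorem X_mul_cw {a : V ≃* V} (ha : W.Pres a) (y : V) :
    W.X a * W.cw y = W.cw (a y) * W.X a := by
  rw [X, Finset.sum_mul, Finset.mul_sum]
  refine (Fintype.sum_equiv (Equiv.mulLeft y) _ _ fun x => ?_).symm
  simp only [Equiv.coe_mulLeft]
  calc W.cw (a y) * (W.cw (a x) * W.cw x⁻¹) = W.σ y x • (W.cw (a (y * x)) * W.cw x⁻¹) := by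
        rw [← mul_assoc, W.cw_mul h2 hodd, ha, smul_mul_assoc, map_mul]
    _ = W.cw (a (y * x)) * (W.σ (y * x)⁻¹ y • W.cw ((y * x)⁻¹ * y)) := by
        rw [mul_smul_comm]
        congr 1
        · rw [W.σ_inv_left, W.σ_mul_right, W.σ_self h2, one_mul]
        · congr 2
          rw [mul_inv_rev, inv_mul_cancel_right]
    _ = W.cw (a (y * x)) * W.cw (y * x)⁻¹ * W.cw y := by
        rw [← W.cw_mul h2 hodd, mul_assoc]

include h2 hodd in
theorem P_X {a : V ≃* V} (ha : W.Pres a) : W.P (W.X a) = W.eps := by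
  classical
  rw [X, map_sum]
  have h : ∀ x : V, W.P (W.cw (a x) * W.cw x⁻¹) =
      if a x * x⁻¹ ∈ W.R then W.eps else 0 := by
    intro x
    rw [W.cw_mul h2 hodd, map_smul, W.P_cw h2 hodd]
    split_ifs with hx
    · rw [W.σ_inv_right, show a x = x * (a x * x⁻¹) by rw [mul_comm x, inv_mul_cancel_right],
        W.σ_mul_right, W.σ_self h2, W.σ_R_right hx, mul_one, one_smul]
    · rw [smul_zero]
  rw [Finset.sum_congr rfl fun x _ => h x, ← Finset.sum_filter, Finset.sum_const,
    ← Nat.cast_smul_eq_nsmul K]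
  let U : Subgroup V :=
    { carrier := {x | a x * x⁻¹ ∈ W.R}
      one_mem' := by
        show a 1 * (1 : V)⁻¹ ∈ W.R
        rw [map_one, inv_one, mul_one]
        exact W.R.one_mem
      mul_mem' := fun {p q} hp hq => by
        show a (p * q) * (p * q)⁻¹ ∈ W.R
        rw [map_mul, mul_inv, mul_mul_mul_comm]
        exact W.R.mul_mem hp hq
      inv_mem' := fun {p} hp => by
        show a p⁻¹ * p⁻¹⁻¹ ∈ W.R
        rw [map_inv, ← mul_inv]
        exact W.R.inv_mem hp }
  have hU : (Finset.univ.filter fun x => a x * x⁻¹ ∈ W.R).card = Nat.card U := by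
    rw [← Nat.card_eq_finsetCard]
    exact Nat.card_congr (Equiv.subtypeEquivRight fun x => by simp [U])
  obtain ⟨m, hm⟩ := hodd.of_dvd_nat (Subgroup.card_subgroup_dvd_card U)
  rw [hU, hm]
  push_cast
  rw [h2, zero_mul, zero_add, one_smul]

include h2 hodd in
theorem X_mul_X_mul_X {a b c : V ≃* V} (ha : W.Pres a) (hb : W.Pres b) (hc : W.Pres c)
    (h : a * b * c = 1) : W.X a * W.X b * W.X c = W.eps := by
  classical
  set Z := W.X a * W.X b * W.X c with hZ
  have hcomm : ∀ y, W.cw y * Z = Z * W.cw y := by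
    intro y
    have hy : a (b (c y)) = y := by
      rw [← MulAut.mul_apply, ← MulAut.mul_apply, h, MulAut.one_apply]
    symm
    calc Z * W.cw y = W.X a * W.X b * (W.X c * W.cw y) := by rw [hZ, mul_assoc]
      _ = W.X a * (W.X b * W.cw (c y)) * W.X c := by
          rw [W.X_mul_cw h2 hodd hc]; simp only [mul_assoc]
      _ = W.X a * W.cw (b (c y)) * W.X b * W.X c := by
          rw [W.X_mul_cw h2 hodd hb]; simp only [mul_assoc]
      _ = W.cw y * Z := by
          rw [W.X_mul_cw h2 hodd ha, hy, hZ]; simp only [mul_assoc]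
  rw [← W.P_eq_self h2 hodd hcomm (by rw [hZ, mul_assoc, W.X_mul_eps h2 hodd])]
  let v1 : V × V × V → V := fun p => a p.1 * p.1⁻¹
  let v2 : V × V × V → V := fun p => b p.2.1 * p.2.1⁻¹
  let v3 : V × V × V → V := fun p => c p.2.2 * p.2.2⁻¹
  let F : V × V × V → A := fun p =>
    (W.σ (a p.1) p.1⁻¹ * W.σ (b p.2.1) p.2.1⁻¹ * W.σ (c p.2.2) p.2.2⁻¹ * W.σ (v1 p) (v2 p) *
      W.σ (v1 p * v2 p) (v3 p)) • (if v1 p * v2 p * v3 p ∈ W.R then W.eps else 0)
  have hsum : W.P Z = ∑ p, F p := by
    rw [hZ, X, X, X, Finset.sum_mul_sum, Finset.sum_mul, map_sum, Fintype.sum_prod_type]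
    refine Finset.sum_congr rfl fun x _ => ?_
    rw [Finset.sum_mul, map_sum, Fintype.sum_prod_type]
    refine Finset.sum_congr rfl fun y _ => ?_
    rw [Finset.mul_sum, map_sum]
    refine Finset.sum_congr rfl fun z _ => ?_
    simp only [F, v1, v2, v3, W.cw_mul h2 hodd, smul_mul_assoc, mul_smul_comm, map_smul,
      W.P_cw h2 hodd, smul_smul]
    congr 1
    ring
  rw [hsum, sum_eq_apply_one (V := V × V × V) ?_ h2 F fun p => ?_]
  · simp [F, v1, v2, v3, W.σ_one_left, W.R.one_mem]
  · rw [Nat.card_prod, Nat.card_prod]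
    exact hodd.mul (hodd.mul hodd)
  · have e1 : v1 p⁻¹ = (v1 p)⁻¹ := by simp [v1, mul_comm]
    have e2 : v2 p⁻¹ = (v2 p)⁻¹ := by simp [v2, mul_comm]
    have e3 : v3 p⁻¹ = (v3 p)⁻¹ := by simp [v3, mul_comm]
    simp only [F, e1, e2, e3, Prod.fst_inv, Prod.snd_inv, map_inv, ← mul_inv, W.σ_inv_inv,
      inv_mem_iff]

include h2 hodd in
theorem X_mul {a b : V ≃* V} (ha : W.Pres a) (hb : W.Pres b) :
    W.X a * W.X b = W.X (a * b) := by
  have hc := (ha.mul hb).inv
  have h1 := W.X_mul_X_mul_X h2 hodd ha hb hc (mul_inv_cancel _)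
  have h3 := W.X_mul_X_mul_X h2 hodd hc W.pres_one (ha.mul hb) (by rw [mul_one, inv_mul_cancel])
  rw [W.X_one h2 hodd, W.X_mul_eps h2 hodd] at h3
  calc W.X a * W.X b = W.X a * W.X b * W.eps := by rw [mul_assoc, W.X_mul_eps h2 hodd]
    _ = W.X a * W.X b * W.X (a * b)⁻¹ * W.X (a * b) := by rw [← h3, ← mul_assoc]
    _ = W.X (a * b) := by rw [h1, W.eps_mul_X h2 hodd]

theorem map_eps {F : Type*} [FunLike F A A] [RingHomClass F A A] (f : F) {b : V ≃* V}
    (hb : W.Pres b) (hf : ∀ x, f (W.w x) = W.w (b x)) : f W.eps = W.eps := by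
  rw [eps, map_sum]
  refine Finset.sum_equiv b.toEquiv (fun x => ?_) (fun x _ => hf x)
  simp only [W.mem_Rset, MulEquiv.toEquiv_eq_coe, EquivLike.coe_coe]
  exact hb.mem_R.symm

theorem map_cw {F : Type*} [FunLike F A A] [RingHomClass F A A] (f : F) {b : V ≃* V}
    (hb : W.Pres b) (hf : ∀ x, f (W.w x) = W.w (b x)) (x : V) : f (W.cw x) = W.cw (b x) := by
  rw [cw, map_mul, hf, W.map_eps f hb hf]; rfl

theorem map_X {F : Type*} [FunLike F A A] [RingHomClass F A A] (f : F) {b : V ≃* V}
    (hb : W.Pres b) (hf : ∀ x, f (W.w x) = W.w (b x)) (a : V ≃* V) :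
    f (W.X a) = W.X (b * a * b⁻¹) := by
  rw [X, map_sum, X]
  refine Fintype.sum_equiv b.toEquiv _ _ fun x => ?_
  rw [map_mul, W.map_cw f hb hf, W.map_cw f hb hf]
  simp [MulAut.mul_apply]

/-- An automorphism of the algebra permuting the lines of the system. -/
theorem auto_props (h2 : (2 : K) = 0) {F : Type*} [FunLike F A A] [AlgHomClass F K A A] (f : F)
    (b : V ≃* V) (c : V → K) (he : f W.e = W.e)
    (hf : ∀ x, f (W.w x) = c x • W.w (b x)) :
    c 1 = 1 ∧ (∀ x y, c (x * y) = c x * c y) ∧ W.Pres b := by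
  have hinj : ∀ (v : V) {p q : K}, p • W.w v = q • W.w v → p = q := by
    intro v p q h
    have h' := congrArg (· * W.w v⁻¹) h
    simp only [smul_mul_assoc, W.mul_w, mul_inv_cancel, W.w_one, smul_smul] at h'
    exact mul_right_cancel₀ (W.σ_ne_zero _ _) (smul_left_injective K W.e_ne_zero h')
  have h1 : c 1 = 1 := by
    have h := hf 1
    rw [W.w_one, he, map_one, W.w_one] at h
    refine hinj 1 ?_
    rw [W.w_one, one_smul, ← h]
  have key : ∀ x y, c x * c y * W.σ (b x) (b y) = W.σ x y * c (x * y) := by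
    intro x y
    have h := congrArg f (W.mul_w x y)
    rw [map_mul, hf, hf, map_smul, hf, smul_mul_smul_comm, W.mul_w, smul_smul, smul_smul,
      ← map_mul] at h
    exact hinj _ h
  have hsq : ∀ x y, c (x * y) = c x * c y := by
    intro x y
    have hk := key x y
    have hk' := key y x
    rw [mul_comm y x] at hk'
    have h4 : c (x * y) * c (x * y) = c x * c y * (c x * c y) := by
      linear_combination (c x * c y * (c x * c y)) * W.σ_swap (b x) (b y)
        - (c (x * y) * c (x * y)) * W.σ_swap x y - (c y * c x * W.σ (b y) (b x)) * hk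
        - (W.σ x y * c (x * y)) * hk'
    have h5 : (c (x * y) - c x * c y) * (c (x * y) - c x * c y) = 0 := by
      linear_combination h4 + (c x * c y * (c x * c y) - c (x * y) * (c x * c y)) * h2
    rcases mul_eq_zero.1 h5 with h | h <;> exact sub_eq_zero.1 h
  refine ⟨h1, hsq, fun x y => ?_⟩
  have hne : c (x * y) ≠ 0 := left_ne_zero_of_mul_eq_one (b := c (x * y)⁻¹) (by
    rw [← hsq, mul_inv_cancel, h1])
  have hk := key x y
  rw [← hsq, mul_comm (W.σ x y)] at hk
  exact mul_left_cancel₀ hne hk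

end Weyl

/-- Normalisation of a twisted group algebra. -/
theorem exists_weyl [IsAlgClosed K] (h2 : (2 : K) = 0) {e : A} (he : e ≠ 0) (u : V → A)
    (h1 : u 1 = e) (hl : ∀ x, e * u x = u x) (hr : ∀ x, u x * e = u x)
    (hinv : ∀ x, ∃ z, u x * z = e ∧ z * u x = e)
    (hmul : ∀ x y, ∃ a : K, u x * u y = a • u (x * y)) :
    ∃ W : Weyl K A V, W.e = e ∧ ∀ x, ∃ d : K, W.w x = d • u x := by
  classical
  have hu0 : ∀ x, u x ≠ 0 := fun x h => by
    obtain ⟨z, hz, -⟩ := hinv x
    rw [h, zero_mul] at hz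
    exact he hz.symm
  have hinj : ∀ (v : V) {p q : K}, p • u v = q • u v → p = q :=
    fun v p q h => smul_left_injective K (hu0 v) h
  choose α hα using hmul
  have hα0 : ∀ x y, α x y ≠ 0 := fun x y h => by
    obtain ⟨z, -, hz⟩ := hinv x
    have h' := hα x y
    rw [h, zero_smul] at h'
    refine hu0 y ?_
    rw [← hl y, ← hz, mul_assoc, h', mul_zero]
  have hα1 : ∀ x, α 1 x = 1 := fun x => hinj x (by
    have h := hα 1 x
    rw [one_mul, h1, hl] at h
    rw [← h, one_smul])
  have hα1' : ∀ x, α x 1 = 1 := fun x => hinj x (by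
    have h := hα x 1
    rw [mul_one, h1, hr] at h
    rw [← h, one_smul])
  have hcoc : ∀ x y z, α x y * α (x * y) z = α y z * α x (y * z) := fun x y z => hinj (x * y * z) (by
    have h := mul_assoc (u x) (u y) (u z)
    rw [hα x y, hα y z, smul_mul_assoc, mul_smul_comm, hα, hα, smul_smul, smul_smul,
      ← mul_assoc x y z] at h
    exact h)
  let β : V → V → K := fun x y => α x y * α y x
  have hβ : ∀ x y z, β x y * β (x * y) z = β y z * β x (y * z) := fun x y z => by
    have h := hcoc z y x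
    rw [mul_comm z y, mul_comm y x] at h
    have := hcoc x y z
    simp only [β]
    linear_combination (α y x * α z (x * y)) * this - (α y z * α x (y * z)) * h
  let Mop : V → Module.End K (V → K) := fun x =>
    { toFun := fun f y => β x (x⁻¹ * y) * f (x⁻¹ * y)
      map_add' := fun f g => funext fun y => by simp [mul_add]
      map_smul' := fun c f => funext fun y => by simp [mul_left_comm] }
  have hM : ∀ x y, Mop x * Mop y = β x y • Mop (x * y) := fun x y => LinearMap.ext fun f =>
    funext fun z => by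
      show β x (x⁻¹ * z) * (β y (y⁻¹ * (x⁻¹ * z)) * f (y⁻¹ * (x⁻¹ * z))) =
        β x y * (β (x * y) ((x * y)⁻¹ * z) * f ((x * y)⁻¹ * z))
      have h := hβ x y (y⁻¹ * (x⁻¹ * z))
      rw [mul_inv_cancel_left] at h
      rw [mul_inv, mul_comm x⁻¹ y⁻¹, mul_assoc y⁻¹]
      linear_combination (- f (y⁻¹ * (x⁻¹ * z))) * h
  have hM1 : Mop 1 = 1 := LinearMap.ext fun f => funext fun y => by
    show β 1 ((1 : V)⁻¹ * y) * f ((1 : V)⁻¹ * y) = f y
    simp [β, hα1, hα1']
  have hcomm : ∀ a ∈ Set.range Mop, ∀ b ∈ Set.range Mop, a * b = b * a := by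
    rintro _ ⟨x, rfl⟩ _ ⟨y, rfl⟩
    rw [hM, hM, mul_comm x y, show β x y = β y x from mul_comm _ _]
  letI := Algebra.adjoinCommRingOfComm K hcomm
  haveI : FiniteDimensional K (Algebra.adjoin K (Set.range Mop)) :=
    FiniteDimensional.finiteDimensional_submodule (Algebra.adjoin K (Set.range Mop)).toSubmodule
  obtain ⟨pt⟩ : Nonempty (H23.Pt K (Algebra.adjoin K (Set.range Mop))) := by
    by_contra hcon
    have hn := H23.isNilpotent_of_forall_pt (k := K)
      (1 : Algebra.adjoin K (Set.range Mop)) fun b => absurd ⟨b⟩ hcon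
    obtain ⟨n, hn⟩ := hn
    rw [one_pow] at hn
    have := congrArg (fun z : Algebra.adjoin K (Set.range Mop) =>
      (z : Module.End K (V → K)) (fun _ => 1) 1) hn
    simp at this
  let m : V → Algebra.adjoin K (Set.range Mop) := fun x =>
    ⟨Mop x, Algebra.subset_adjoin ⟨x, rfl⟩⟩
  set c : V → K := fun x => pt (m x) with hc
  have hcm : ∀ x y, c x * c y = β x y * c (x * y) := fun x y => by
    have h : m x * m y = β x y • m (x * y) := Subtype.ext (hM x y)
    have := congrArg pt h
    rwa [map_mul, map_smul, smul_eq_mul] at this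
  have hc1 : c 1 = 1 := by
    show pt (m 1) = 1
    rw [show m 1 = 1 from Subtype.ext hM1, map_one]
  have hc0 : ∀ x, c x ≠ 0 := fun x h => by
    have := hcm x x⁻¹
    rw [h, zero_mul, mul_inv_cancel, hc1, mul_one] at this
    exact mul_ne_zero (hα0 _ _) (hα0 _ _) this.symm
  choose d hd using fun x => IsAlgClosed.exists_pow_nat_eq ((c x)⁻¹) (by norm_num : 0 < 2)
  have hd' : ∀ x, d x * d x * c x = 1 := fun x => by
    rw [← pow_two, hd, inv_mul_cancel₀ (hc0 x)]
  have hd0 : ∀ x, d x ≠ 0 := fun x h => by simpa [h] using hd' x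
  have hd1 : d 1 = 1 := eq_one_of_mul_self h2 (by simpa [hc1] using hd' 1)
  let σ : V → V → K := fun x y => α x y * d x * d y / d (x * y)
  have hswap : ∀ x y, σ x y * σ y x = 1 := fun x y => by
    have := hcm x y
    have := hd0 (x * y)
    simp only [σ, mul_comm y x, div_mul_div_comm]
    rw [div_eq_one_iff_eq (mul_ne_zero ‹_› ‹_›)]
    refine mul_right_cancel₀ (hc0 (x * y)) ?_
    linear_combination (- d x * d x * (d y * d y)) * hcm x y + (d y * d y * c y) * hd' x
      + hd' y - hd' (x * y)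
  have hσc : ∀ x y z, σ x y * σ (x * y) z = σ y z * σ x (y * z) := fun x y z => by
    have := hd0 (x * y)
    have := hd0 (y * z)
    have := hd0 (x * (y * z))
    have := hcoc x y z
    simp only [σ, mul_assoc x y z]
    field_simp
    linear_combination (d x * d y * d z) * this
  refine ⟨{ e := e, w := fun x => d x • u x, σ := σ, w_one := by rw [hd1, h1, one_smul],
            e_mul := fun x => by rw [mul_smul_comm, hl]
            mul_e := fun x => by rw [smul_mul_assoc, hr]
            e_ne_zero := he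
            mul_w := fun x y => by
              rw [smul_mul_smul_comm, hα, smul_smul, smul_smul]
              congr 1
              have := hd0 (x * y)
              simp only [σ]
              field_simp
            σ_mul := fun x y z => ?_
            σ_swap := hswap }, rfl, fun x => ⟨d x, rfl⟩⟩
  -- squares suffice
  have e1 := hσc x y z
  have e2 := hσc z x y
  have e3 := hσc x z y
  rw [mul_comm z x] at e2
  rw [mul_comm z y] at e3
  have hsq : σ (x * y) z * σ (x * y) z = σ x z * σ y z * (σ x z * σ y z) := by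
    have h6 : σ (x * y) z * σ (x * z) y = σ x y * σ x z := by
      linear_combination (σ (x * y) z * σ x z) * e2 - (σ (x * y) z * σ (x * z) y) * hswap x z
        + (σ x y * σ x z) * hswap (x * y) z
    have h7 : σ (x * y) z * σ (x * y) z * σ (x * z) y = σ y z * σ x (y * z) * σ x z := by
      refine mul_left_cancel₀ (left_ne_zero_of_mul_eq_one (hswap x y)) ?_
      linear_combination (σ (x * y) z * σ (x * z) y) * e1 + (σ y z * σ x (y * z)) * h6
    refine mul_right_cancel₀ (left_ne_zero_of_mul_eq_one (hswap x (y * z))) ?_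
    linear_combination (- (σ (x * y) z * σ (x * y) z * σ x (y * z))) * hswap y z
      - (σ (x * y) z * σ (x * y) z * σ y z) * e3 + (σ x z * σ y z) * h7
  have h5 : (σ (x * y) z - σ x z * σ y z) * (σ (x * y) z - σ x z * σ y z) = 0 := by
    linear_combination hsq + (σ x z * σ y z * (σ x z * σ y z) - σ (x * y) z * (σ x z * σ y z)) * h2
  rcases mul_eq_zero.1 h5 with h | h <;> exact sub_eq_zero.1 h

section Equivariant

variable {S : Type*} [Group S] [Fintype S] (Φ : S →* (A ≃ₐ[K] A)) (τ : S →* MulAut V)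

/-- A normalised system equivariant under a coprime group of operators. -/
theorem exists_weyl_equivariant (h2 : (2 : K) = 0) (W : Weyl K A V)
    (hcop : (Nat.card S).Coprime (Nat.card V)) (he : ∀ s, Φ s W.e = W.e)
    (h : ∀ s x, ∃ a : K, Φ s (W.w x) = a • W.w (τ s x)) :
    ∃ W' : Weyl K A V, W'.e = W.e ∧ (∀ x, ∃ d : K, W'.w x = d • W.w x) ∧
      (∀ s, W'.Pres (τ s)) ∧ ∀ s x, Φ s (W'.w x) = W'.w (τ s x) := by
  classical
  choose c hc using h
  have hprop := fun s => W.auto_props h2 (Φ s) (τ s) (c s) (he s) (hc s)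
  have hc0 : ∀ s x, c s x ≠ 0 := fun s x =>
    left_ne_zero_of_mul_eq_one (b := c s x⁻¹) (by
      rw [← (hprop s).2.1, mul_inv_cancel, (hprop s).1])
  have hinj : ∀ (v : V) {p q : K}, p • W.w v = q • W.w v → p = q := by
    intro v p q h'
    have h'' := congrArg (· * W.w v⁻¹) h'
    simp only [smul_mul_assoc, W.mul_w, mul_inv_cancel, W.w_one, smul_smul] at h''
    exact mul_right_cancel₀ (W.σ_ne_zero _ _) (smul_left_injective K W.e_ne_zero h'')
  have hcomp : ∀ s t x, c (s * t) x = c s (τ t x) * c t x := fun s t x => by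
    refine hinj (τ (s * t) x) ?_
    rw [← hc, map_mul, map_mul, AlgEquiv.mul_apply, hc, map_smul, hc, smul_smul, mul_comm,
      MulAut.mul_apply]
  let D : V →* K :=
    { toFun := fun x => ∏ s, c s x
      map_one' := Finset.prod_eq_one fun s _ => (hprop s).1
      map_mul' := fun x y => by
        rw [← Finset.prod_mul_distrib]
        exact Finset.prod_congr rfl fun s _ => (hprop s).2.1 x y }
  let root : V ≃ V := powCoprime hcop.symm
  have hroot : ∀ x, root.symm x ^ Nat.card S = x := fun x => root.apply_symm_apply x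
  let r : V →* V :=
    { toFun := root.symm
      map_one' := root.injective (by simp [root])
      map_mul' := fun x y => root.injective (by
        show (root.symm (x * y)) ^ Nat.card S = (root.symm x * root.symm y) ^ Nat.card S
        rw [mul_pow, hroot, hroot, hroot]) }
  let d : V →* K := D.comp r
  have hd0 : ∀ x, d x ≠ 0 := fun x =>
    left_ne_zero_of_mul_eq_one (b := d x⁻¹) (by rw [← map_mul, mul_inv_cancel, map_one])
  have hd : ∀ t x, d x = d (τ t x) * c t x := fun t x => by
    have hr : r (τ t x) = τ t (r x) := root.injective (by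
      show (root.symm (τ t x)) ^ Nat.card S = (τ t (root.symm x)) ^ Nat.card S
      rw [hroot, ← map_pow, hroot])
    have hD : D (r x) = D (τ t (r x)) * c t (r x) ^ Nat.card S := by
      show ∏ s, c s (r x) = (∏ s, c s (τ t (r x))) * c t (r x) ^ Nat.card S
      rw [← Equiv.prod_comp (Equiv.mulRight t) (fun s => c s (r x)), Nat.card_eq_fintype_card,
        ← Finset.card_univ, ← Finset.prod_const, ← Finset.prod_mul_distrib]
      exact Finset.prod_congr rfl fun s _ => hcomp s t (r x)
    let ct : V →* K :=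
      { toFun := c t, map_one' := (hprop t).1, map_mul' := (hprop t).2.1 }
    rw [show d x = D (r x) from rfl, hD, show c t x = c t (r x) ^ Nat.card S from by
      rw [show c t (r x) ^ Nat.card S = ct (r x) ^ Nat.card S from rfl, ← map_pow]
      exact congrArg ct (hroot x).symm]
    rw [show d (τ t x) = D (r (τ t x)) from rfl, hr]
  refine ⟨{ W with
            w := fun x => (d x)⁻¹ • W.w x
            w_one := by rw [map_one, inv_one, one_smul, W.w_one]
            e_mul := fun x => by rw [mul_smul_comm, W.e_mul]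
            mul_e := fun x => by rw [smul_mul_assoc, W.mul_e]
            mul_w := fun x y => by
              rw [smul_mul_smul_comm, W.mul_w, smul_smul, smul_smul, map_mul, mul_inv,
                mul_comm] }, rfl, fun x => ⟨(d x)⁻¹, rfl⟩, fun s => (hprop s).2.2, fun s x => ?_⟩
  show Φ s ((d x)⁻¹ • W.w x) = (d (τ s x))⁻¹ • W.w (τ s x)
  rw [map_smul, hc, smul_smul]
  congr 1
  have := hd0 x
  have := hd0 (τ s x)
  field_simp
  linear_combination (- 1 : K) * hd s x

/-- An automorphism commuting with the operators fixes an equivariant system exactly. -/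
theorem map_w_of_commute (h2 : (2 : K) = 0) (W : Weyl K A V)
    (hcop : (Nat.card S).Coprime (Nat.card V)) (hΦ : ∀ s x, Φ s (W.w x) = W.w (τ s x))
    (hfree : ∀ v, (∀ s, τ s v = v) → v = 1) (f : A ≃ₐ[K] A) (b : V ≃* V) (hfe : f W.e = W.e)
    (hf : ∀ x, ∃ a : K, f (W.w x) = a • W.w (b x)) (hcomm : ∀ s a, Φ s (f a) = f (Φ s a))
    (hb : ∀ s x, τ s (b x) = b (τ s x)) :
    W.Pres b ∧ ∀ x, f (W.w x) = W.w (b x) := by
  classical
  choose c hc using hf
  obtain ⟨h1, hmul, hpres⟩ := W.auto_props h2 f b c hfe hc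
  refine ⟨hpres, fun x => ?_⟩
  have hinv : ∀ s x, c (τ s x) = c x := fun s x => by
    have h := hcomm s (W.w x)
    rw [hc, map_smul, hΦ, hΦ, hc, hb] at h
    have h' := congrArg (· * W.w (b (τ s x))⁻¹) h
    simp only [smul_mul_assoc, W.mul_w, mul_inv_cancel, W.w_one, smul_smul] at h'
    exact (mul_right_cancel₀ (W.σ_ne_zero _ _) (smul_left_injective K W.e_ne_zero h')).symm
  let cc : V →* K := { toFun := c, map_one' := h1, map_mul' := hmul }
  have hy : ∏ s, τ s x = 1 := hfree _ fun t => by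
    rw [map_prod]
    refine Fintype.prod_equiv (Equiv.mulLeft t) _ _ fun s => ?_
    rw [Equiv.coe_mulLeft, map_mul, MulAut.mul_apply]
  have hS : c x ^ Nat.card S = 1 := by
    have h := congrArg cc hy
    rw [map_prod, map_one, Finset.prod_congr rfl fun s _ => show cc (τ s x) = c x from hinv s x,
      Finset.prod_const, Finset.card_univ, ← Nat.card_eq_fintype_card] at h
    exact h
  have hV : c x ^ Nat.card V = 1 := by
    show cc x ^ Nat.card V = 1
    rw [← map_pow, pow_card_eq_one', map_one]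
  have hgcd := pow_gcd_eq_one.2 ⟨hS, hV⟩
  rw [hcop, pow_one] at hgcd
  rw [hc, hgcd, one_smul]

end Equivariant

end H20.Magic
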