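import Cfsg.Agent.H20.Magic.Twisted
import Cfsg.Agent.H20.Magic.Weyl
import Cfsg.Agent.H23.Bridge

/-!
# The setting of the odd order correspondence

Operators `S` of coprime order act on a group `G` of odd order with fixed points `C`, `K/L` is an
abelian invariant section without fixed points, `G = K C` and `H = L C`.
`H20.Magic.Setting.exists_sys` provides the equivariant Weyl system over an invariant character of
`L`.
-/

set_option autoImplicit false
set_option linter.style.haveILetI false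
set_option linter.unusedSectionVars false

open Cfsg MonoidAlgebra
open H12.Glauberman (mult)

namespace H20.Magic

theorem isAlgClosed_k' {M : Ideal AlgInt} [M.IsPrime] (hM : IsPModular 2 M) :
    IsAlgClosed (k M) := H23.isAlgClosed_k hM.2.1

universe u v

variable {M : Ideal AlgInt} [hMp : M.IsPrime]

section Family

variable {X : Type u} [Group X] [Fintype X]

/-- A character composed with an automorphism. -/
noncomputable def compIrr (χ : IrrCharacter X) (α : MulAut X) : IrrCharacter X :=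
  ⟨fun x => (χ : X → ℂ) (α x),
    H12.IsIrrCharacter.comp_surjective χ.2 (f := α.toMonoidHom) α.surjective⟩

theorem compIrr_apply (χ : IrrCharacter X) (α : MulAut X) (x : X) :
    (compIrr χ α : X → ℂ) x = (χ : X → ℂ) (α x) := rfl

theorem autA_cid (χ : IrrCharacter X) (α : MulAut X) :
    autA M α (cid M χ) = cid M (compIrr χ α⁻¹) := by
  ext x
  rw [coeff_autA, coeff_cid, coeff_cid, compIrr_apply, map_inv]

theorem tr_autA (χ : IrrCharacter X) (α : MulAut X) (a : GA M X) :
    tr M χ (autA M α a) = tr M (compIrr χ α) a := by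
  have h : (tr M χ).comp (autA M α).toLinearMap = tr M (compIrr χ α) := linearMap_ext fun x => by
    rw [LinearMap.comp_apply, AlgEquiv.toLinearMap_apply, autA_el, tr_el, tr_el, compIrr_apply]
  exact LinearMap.congr_fun h a

variable {ι : Type*} [Fintype ι] (b : ι → GA M X)

/-- An orbit of orthogonal idempotents: the members met by a character have nonzero trace. -/
theorem family_mul_eq_zero (hM : IsPModular 2 M) (hX : Odd (Nat.card X)) (hsum : ∑ i, b i = 1)
    (horth : ∀ i j, b i ≠ b j → b i * b j = 0) (hconj : ∀ i x, ∃ j, el M x * b i * el M x⁻¹ = b j)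
    (χ : IrrCharacter X) (i : ι) (h : tr M χ (b i) = 0) : cid M χ * b i = 0 := by
  classical
  obtain ⟨j, hj⟩ : ∃ j, tr M χ (b j) ≠ 0 := by
    by_contra hcon
    push Not at hcon
    have h1 := congrArg (tr M χ) hsum
    rw [map_sum, Finset.sum_eq_zero fun j _ => hcon j, ← el_one, tr_el, red_degree hM hX] at h1
    exact zero_ne_one h1
  have hs : (∑ x : X, el M x * b j * el M x⁻¹) * cid M χ = tr M χ (b j) • cid M χ := by
    rw [sum_conj hM hX, Finset.sum_mul, Finset.sum_eq_single χ]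
    · rw [smul_mul_assoc, cid_idem hM hX]
    · intro ψ _ hne
      rw [smul_mul_assoc, cid_mul_cid hM hX, if_neg hne, smul_zero]
    · simp
  have hz : (∑ x : X, el M x * b j * el M x⁻¹) * b i = 0 := by
    rw [Finset.sum_mul]
    refine Finset.sum_eq_zero fun x _ => ?_
    obtain ⟨j', hj'⟩ := hconj j x
    rw [hj']
    refine horth _ _ fun he => hj ?_
    rw [← tr_conj χ (b j) x, hj', he, h]
  have h2 : tr M χ (b j) • (cid M χ * b i) = 0 := by
    rw [← smul_mul_assoc, ← hs, mul_assoc, cid_comm χ (b i), ← mul_assoc, hz, zero_mul]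
  exact (smul_eq_zero.1 h2).resolve_left hj

/-- The members with nonzero trace form one orbit. -/
theorem family_transitive (hM : IsPModular 2 M) (hX : Odd (Nat.card X))
    (horth : ∀ i j, b i ≠ b j → b i * b j = 0) (hconj : ∀ i x, ∃ j, el M x * b i * el M x⁻¹ = b j)
    (χ : IrrCharacter X) (i j : ι) (hi : tr M χ (b i) ≠ 0) (hj : tr M χ (b j) ≠ 0) :
    ∃ x : X, el M x * b i * el M x⁻¹ = b j := by
  classical
  by_contra hcon
  push Not at hcon
  have hs : (∑ x : X, el M x * b i * el M x⁻¹) * cid M χ = tr M χ (b i) • cid M χ := by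
    rw [sum_conj hM hX, Finset.sum_mul, Finset.sum_eq_single χ]
    · rw [smul_mul_assoc, cid_idem hM hX]
    · intro ψ _ hne
      rw [smul_mul_assoc, cid_mul_cid hM hX, if_neg hne, smul_zero]
    · simp
  have hz : (∑ x : X, el M x * b i * el M x⁻¹) * b j = 0 := by
    rw [Finset.sum_mul]
    refine Finset.sum_eq_zero fun x _ => ?_
    obtain ⟨i', hi'⟩ := hconj i x
    rw [hi']
    exact horth _ _ (hi' ▸ hcon x)
  have h2 : tr M χ (b i) • (cid M χ * b j) = 0 := by
    rw [← smul_mul_assoc, ← hs, mul_assoc, cid_comm χ (b j), ← mul_assoc, hz, zero_mul]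
  have h3 : cid M χ * b j = 0 := (smul_eq_zero.1 h2).resolve_left hi
  rw [cid_comm] at h3
  have h4 := tr_mul_cid hM hX χ χ (b j)
  rw [h3, map_zero, if_pos rfl] at h4
  exact hj h4.symm

end Family

variable {G : Type u} [Group G] {S : Type v} [Group S]

variable (M) in
/-- The standing hypotheses. -/
structure Setting (φ : S →* MulAut G) (C K L H : Subgroup G) : Prop where
  modular : IsPModular 2 M
  odd : Odd (Nat.card G)
  solvable : Group.IsSolvable G
  coprime : (Nat.card G).Coprime (Nat.card S)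
  mem_C : ∀ g, g ∈ C ↔ ∀ s, φ s g = g
  L_le : L ≤ K
  K_inv : ∀ s, ∀ x ∈ K, φ s x ∈ K
  L_inv : ∀ s, ∀ x ∈ L, φ s x ∈ L
  comm : ∀ a ∈ K, ∀ b ∈ K, a * b * a⁻¹ * b⁻¹ ∈ L
  free : ∀ x ∈ K, (∀ s, x⁻¹ * φ s x ∈ L) → x ∈ L
  decomp : ∀ g, ∃ x ∈ K, ∃ c ∈ C, g = x * c
  H_eq : H = L ⊔ C

namespace Setting

variable [Fintype G] [Fintype S] {φ : S →* MulAut G} {C K L H : Subgroup G}
variable [K.Normal] [L.Normal] [Fintype L] [Fintype H] (hs : Setting M φ C K L H)

theorem apply_apply_inv (α : MulAut G) (g : G) : α (α⁻¹ g) = g := α.apply_symm_apply g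

include hs in
theorem L_inv_iff (s : S) (x : G) : x ∈ L ↔ φ s x ∈ L := by
  refine ⟨hs.L_inv s x, fun h => ?_⟩
  have := hs.L_inv s⁻¹ _ h
  rwa [map_inv, show (φ s)⁻¹ (φ s x) = x from (φ s).symm_apply_apply x] at this

include hs in
theorem C_le_H : C ≤ H := hs.H_eq ▸ le_sup_right

include hs in
theorem L_le_H : L ≤ H := hs.H_eq ▸ le_sup_left

include hs in
theorem C_inf_K : ∀ x ∈ K, x ∈ C → x ∈ L := fun x hx hc => hs.free x hx fun s => by
  rw [(hs.mem_C x).1 hc s, inv_mul_cancel]
  exact L.one_mem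

include hs in
theorem H_decomp {h : G} (hh : h ∈ H) : ∃ l ∈ L, ∃ c ∈ C, h = l * c := by
  rw [hs.H_eq] at hh
  obtain ⟨l, hl, c, hc, rfl⟩ := Subgroup.mem_sup_of_normal_left.1 hh
  exact ⟨l, hl, c, hc, rfl⟩

include hs in
theorem H_inv (s : S) : ∀ h ∈ H, φ s h ∈ H := by
  intro h hh
  obtain ⟨l, hl, c, hc, rfl⟩ := hs.H_decomp hh
  rw [map_mul, (hs.mem_C c).1 hc s]
  exact H.mul_mem (hs.L_le_H (hs.L_inv s l hl)) (hs.C_le_H hc)

include hs in
theorem H_inf_K {h : G} (hh : h ∈ H) (hk : h ∈ K) : h ∈ L := by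
  obtain ⟨l, hl, c, hc, rfl⟩ := hs.H_decomp hh
  refine L.mul_mem hl (hs.C_inf_K c ?_ hc)
  simpa using K.mul_mem (K.inv_mem (hs.L_le hl)) hk

include hs in
/-- A fixed coset of an invariant subgroup above `L` is trivial. -/
theorem mem_of_fixed (N : Subgroup G) (hLN : L ≤ N) (hNK : N ≤ K) {x : G} (hx : x ∈ K)
    (hfix : ∀ s, x⁻¹ * φ s x ∈ N) : x ∈ N := by
  classical
  let L' : Subgroup K := L.subgroupOf K
  haveI : L'.Normal := Subgroup.normal_subgroupOf
  letI : CommGroup (K ⧸ L') :=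
    { (inferInstance : Group (K ⧸ L')) with
      mul_comm := fun a b => by
        obtain ⟨a, rfl⟩ := QuotientGroup.mk'_surjective L' a
        obtain ⟨b, rfl⟩ := QuotientGroup.mk'_surjective L' b
        rw [← map_mul, ← map_mul]
        refine (QuotientGroup.eq (s := L')).2 ?_
        show ((a * b)⁻¹ * (b * a) : K).1 ∈ L
        have := hs.comm _ (K.inv_mem b.2) _ (K.inv_mem a.2)
        simpa [mul_assoc] using this }
  let π : K →* K ⧸ L' := QuotientGroup.mk' L'
  let N' : Subgroup (K ⧸ L') := (N.subgroupOf K).map π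
  let y : S → K := fun s => ⟨φ s x, hs.K_inv s x hx⟩
  set p := ∏ s, π (y s) with hp
  obtain ⟨z, hz⟩ := QuotientGroup.mk'_surjective L' p
  have hzL : (z : G) ∈ L := hs.free _ z.2 fun t => by
    let αK : K →* K :=
      { toFun := fun k => ⟨φ t (k : G), hs.K_inv t k k.2⟩
        map_one' := Subtype.ext (map_one (φ t))
        map_mul' := fun a b => Subtype.ext (map_mul (φ t) (a : G) b) }
    have hle : L' ≤ L'.comap αK := fun k hk => hs.L_inv t k hk
    let β := QuotientGroup.map L' L' αK hle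
    have hβ : β p = p := by
      rw [hp, map_prod]
      refine Fintype.prod_equiv (Equiv.mulLeft t) _ _ fun s => ?_
      show π (αK (y s)) = π (y (t * s))
      congr 1
      apply Subtype.ext
      show φ t (φ s x) = φ (t * s) x
      rw [map_mul, MulAut.mul_apply]
    rw [← hz] at hβ
    exact (QuotientGroup.eq (s := L')).1 hβ.symm
  have hp1 : p = 1 := by
    rw [← hz]
    exact (QuotientGroup.eq_one_iff z).2 hzL
  have h1 : (π ⟨x, hx⟩)⁻¹ ^ Nat.card S * p ∈ N' := by
    rw [hp, Nat.card_eq_fintype_card, ← Finset.card_univ, ← Finset.prod_const,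
      ← Finset.prod_mul_distrib]
    refine N'.prod_mem fun s _ => ⟨⟨x, hx⟩⁻¹ * y s, hfix s, ?_⟩
    rw [map_mul, map_inv]
  rw [hp1, mul_one, inv_pow, N'.inv_mem_iff] at h1
  have hdvd : (Nat.card S).Coprime (orderOf (π ⟨x, hx⟩)) := by
    refine Nat.Coprime.coprime_dvd_right ?_ hs.coprime.symm
    exact (orderOf_map_dvd π _).trans (by rw [← Subgroup.orderOf_coe]; exact orderOf_dvd_natCard x)
  obtain ⟨m, hm⟩ := exists_pow_eq_self_of_coprime hdvd
  obtain ⟨n, hn, hnx⟩ : π ⟨x, hx⟩ ∈ N' := hm ▸ N'.pow_mem h1 m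
  have h2 : (((⟨x, hx⟩ : K)⁻¹ * n : K) : G) ∈ L := (QuotientGroup.eq (s := L')).1 hnx.symm
  have h3 : (n : G) ∈ N := hn
  have h4 := N.mul_mem h3 (N.inv_mem (hLN h2))
  simpa [mul_assoc] using h4

include hs in
theorem autA_fix_stab {a : GA M G} (ha : ∀ s, autA M (φ s) a = a) (s : S) {g : G}
    (hg : g ∈ stab M a) : φ s g ∈ stab M a := by
  have h := congrArg (autA M (φ s)) hg
  rwa [map_mul, map_mul, autA_el, ha] at h

include hs in
/-- Two fixed members of a `K`-orbit coincide. -/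
theorem conj_eq_self {a : GA M G} (ha : ∀ s, autA M (φ s) a = a) (hL : L ≤ stab M a) {x : G}
    (hx : x ∈ K) (hfix : ∀ s, autA M (φ s) (el M x * a * el M x⁻¹) = el M x * a * el M x⁻¹) :
    el M x * a * el M x⁻¹ = a := by
  have hN : x ∈ K ⊓ stab M a := hs.mem_of_fixed (K ⊓ stab M a) (le_inf hs.L_le hL) inf_le_left hx
    fun s => Subgroup.mem_inf.2 ⟨K.mul_mem (K.inv_mem hx) (hs.K_inv s x hx), by
      have h := hfix s
      rw [map_mul, map_mul, autA_el, autA_el, ha, map_inv] at h
      rw [mem_stab_iff_conj, mul_inv_rev, inv_inv, el_mul, el_mul]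
      calc el M x⁻¹ * el M (φ s x) * a * (el M (φ s x)⁻¹ * el M x)
          = el M x⁻¹ * (el M (φ s x) * a * el M (φ s x)⁻¹) * el M x := by simp only [mul_assoc]
        _ = el M x⁻¹ * el M x * a * (el M x⁻¹ * el M x) := by rw [h]; simp only [mul_assoc]
        _ = a := by rw [el_inv_mul, one_mul, mul_one]⟩
  exact mem_stab_iff_conj.1 (Subgroup.mem_inf.1 hN).2

include hs in
theorem map_eL (α : MulAut G) (hα : ∀ x, x ∈ L ↔ α x ∈ L) (θ : IrrCharacter L) :
    ∃ θ', autA M α (eL M L θ) = eL M L θ' := by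
  let αL : MulAut L :=
    { toFun := fun l => ⟨α (l : G), (hα l).1 l.2⟩
      invFun := fun l => ⟨α⁻¹ (l : G), by rw [hα, apply_apply_inv]; exact l.2⟩
      left_inv := fun l => Subtype.ext (α.symm_apply_apply (l : G))
      right_inv := fun l => Subtype.ext (apply_apply_inv α (l : G))
      map_mul' := fun a b => Subtype.ext (map_mul α (a : G) b) }
  refine ⟨compIrr θ αL⁻¹, ?_⟩
  have h : (autA M α).toLinearMap.comp (incl M L).toLinearMap =
      (incl M L).toLinearMap.comp (autA M αL).toLinearMap := linearMap_ext fun l => by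
    simp only [LinearMap.comp_apply, AlgHom.toLinearMap_apply, AlgEquiv.toLinearMap_apply, incl_el,
      autA_el]
    rfl
  have h' := LinearMap.congr_fun h (cid M θ)
  simp only [LinearMap.comp_apply, AlgHom.toLinearMap_apply, AlgEquiv.toLinearMap_apply,
    autA_cid] at h'
  exact h'

include hs in
theorem C_conj_fixed {a : GA M G} (ha : ∀ s, autA M (φ s) a = a) {c : G} (hc : c ∈ C) (s : S) :
    autA M (φ s) (el M c * a * el M c⁻¹) = el M c * a * el M c⁻¹ := by
  rw [map_mul, map_mul, autA_el, autA_el, ha, (hs.mem_C _).1 (C.inv_mem hc) s,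
    (hs.mem_C _).1 hc s]

variable (θ : IrrCharacter L) (hθ : ∀ s, autA M (φ s) (eL M L θ) = eL M L θ)

include hs hθ in
theorem exists_C_conj {g : G}
    (hfix : ∀ s, autA M (φ s) (el M g * eL M L θ * el M g⁻¹) = el M g * eL M L θ * el M g⁻¹) :
    ∃ c ∈ C, el M c * eL M L θ * el M c⁻¹ = el M g * eL M L θ * el M g⁻¹ := by
  obtain ⟨x, hx, c, hc, rfl⟩ := hs.decomp g
  refine ⟨c, hc, ?_⟩
  set a := el M c * eL M L θ * el M c⁻¹ with ha
  have hg : el M (x * c) * eL M L θ * el M (x * c)⁻¹ = el M x * a * el M x⁻¹ := by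
    rw [ha, mul_inv_rev, el_mul, el_mul]; simp only [mul_assoc]
  rw [hg] at hfix ⊢
  have hLa : L ≤ stab M a := fun l hl => by
    rw [ha, conj_eL]; exact el_mem_stab_eL _ hl
  exact (hs.conj_eq_self (hs.C_conj_fixed hθ hc) hLa hx hfix).symm

include hs hθ in
theorem stab_decomp {g : G} (hg : g ∈ stab M (eL M L θ)) :
    ∃ x ∈ K ⊓ stab M (eL M L θ), ∃ c ∈ C ⊓ stab M (eL M L θ), g = x * c := by
  obtain ⟨x, hx, c, hc, rfl⟩ := hs.decomp g
  set a := el M c * eL M L θ * el M c⁻¹ with ha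
  have hg' : el M x * a * el M x⁻¹ = eL M L θ := by
    rw [← mem_stab_iff_conj.1 hg, ha, mul_inv_rev, el_mul, el_mul]
    simp only [mul_assoc]
  have hLa : L ≤ stab M a := fun l hl => by
    rw [ha, conj_eL]; exact el_mem_stab_eL _ hl
  have hxa := hs.conj_eq_self (hs.C_conj_fixed hθ hc) hLa hx (fun s => by rw [hg', hθ])
  have hc' : c ∈ stab M (eL M L θ) := mem_stab_iff_conj.2 (hxa.symm.trans hg')
  refine ⟨x, ⟨hx, ?_⟩, c, ⟨hc, hc'⟩, rfl⟩
  simpa using (stab M (eL M L θ)).mul_mem hg ((stab M _).inv_mem hc')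

end Setting

/-! ### The quotient `(K ∩ stab e) / L` -/

namespace Setting

variable [Fintype G] {K L : Subgroup G} [K.Normal] [L.Normal] [Fintype L]

variable (M K) in
/-- The part of `K` centralising the idempotent. -/
noncomputable abbrev K1 (θ : IrrCharacter L) : Subgroup G := K ⊓ stab M (eL M L θ)

variable (M K) in
/-- The abelian section. -/
noncomputable abbrev Sec (θ : IrrCharacter L) : Type u := K1 M K θ ⧸ L.subgroupOf (K1 M K θ)

/-- Commutators of `K` lie in `L`. -/
class AbSec {G : Type*} [Group G] (K L : Subgroup G) : Prop where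
  comm : ∀ a ∈ K, ∀ b ∈ K, a * b * a⁻¹ * b⁻¹ ∈ L

noncomputable instance secGroup (θ : IrrCharacter L) [AbSec K L] : CommGroup (Sec M K θ) :=
  { (inferInstance : Group (Sec M K θ)) with
    mul_comm := fun a b => by
      obtain ⟨a, rfl⟩ := QuotientGroup.mk'_surjective _ a
      obtain ⟨b, rfl⟩ := QuotientGroup.mk'_surjective _ b
      rw [← map_mul, ← map_mul]
      refine (QuotientGroup.eq (s := L.subgroupOf (K1 M K θ))).2 ?_
      show ((a * b)⁻¹ * (b * a) : K1 M K θ).1 ∈ L
      have := AbSec.comm (L := L) _ (K.inv_mem (Subgroup.mem_inf.1 b.2).1) _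
        (K.inv_mem (Subgroup.mem_inf.1 a.2).1)
      simpa [mul_assoc] using this }

noncomputable instance secFintype (θ : IrrCharacter L) : Fintype (Sec M K θ) :=
  Fintype.ofFinite _

/-- The representative of a class. -/
noncomputable def rep {θ : IrrCharacter L} (v : Sec M K θ) : G := ((Quotient.out v : K1 M K θ) : G)

theorem rep_mem {θ : IrrCharacter L} (v : Sec M K θ) : rep v ∈ K1 M K θ :=
  (Quotient.out v : K1 M K θ).2

/-- The class of an element. -/
noncomputable def cls {θ : IrrCharacter L} {x : G} (hx : x ∈ K1 M K θ) : Sec M K θ :=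
  QuotientGroup.mk ⟨x, hx⟩

theorem rep_inv_mul {θ : IrrCharacter L} {x : G} (hx : x ∈ K1 M K θ) :
    (rep (cls hx))⁻¹ * x ∈ L := by
  have h : (QuotientGroup.mk (Quotient.out (cls hx)) : Sec M K θ) = QuotientGroup.mk ⟨x, hx⟩ :=
    Quotient.out_eq _
  exact (QuotientGroup.eq (s := L.subgroupOf (K1 M K θ))).1 h

theorem cls_rep {θ : IrrCharacter L} (v : Sec M K θ) : cls (rep_mem v) = v := Quotient.out_eq v

theorem cls_eq {θ : IrrCharacter L} {x y : G} (hx : x ∈ K1 M K θ) (hy : y ∈ K1 M K θ) :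
    cls hx = cls hy ↔ x⁻¹ * y ∈ L :=
  QuotientGroup.eq (s := L.subgroupOf (K1 M K θ)) (a := ⟨x, hx⟩) (b := ⟨y, hy⟩)

theorem cls_mul {θ : IrrCharacter L} {x y : G} (hx : x ∈ K1 M K θ) (hy : y ∈ K1 M K θ) :
    cls ((K1 M K θ).mul_mem hx hy) = cls hx * cls hy := rfl

theorem rep_mul {θ : IrrCharacter L} (a b : Sec M K θ) :
    (rep (a * b))⁻¹ * (rep a * rep b) ∈ L := by
  have h := cls_mul (rep_mem a) (rep_mem b)
  rw [cls_rep, cls_rep] at h
  rw [← h]
  exact rep_inv_mul _

theorem rep_one (θ : IrrCharacter L) : rep (1 : Sec M K θ) ∈ L := by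
  have h : cls ((K1 M K θ).one_mem) = (1 : Sec M K θ) := rfl
  have h' := rep_inv_mul ((K1 M K θ).one_mem)
  rwa [h, mul_one, inv_mem_iff] at h'

theorem mem_K1_conj (θ : IrrCharacter L) {g x : G} (hg : g ∈ stab M (eL M L θ))
    (hx : x ∈ K1 M K θ) : g * x * g⁻¹ ∈ K1 M K θ :=
  Subgroup.mem_inf.2 ⟨Subgroup.Normal.conj_mem ‹K.Normal› x (Subgroup.mem_inf.1 hx).1 g,
    (stab M _).mul_mem ((stab M _).mul_mem hg (Subgroup.mem_inf.1 hx).2) ((stab M _).inv_mem hg)⟩

/-- The automorphism of the section induced by an automorphism of the group. -/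
noncomputable def secAut (θ : IrrCharacter L) (α : MulAut G)
    (hK : ∀ x, x ∈ K1 M K θ ↔ α x ∈ K1 M K θ) (hL : ∀ x, x ∈ L ↔ α x ∈ L) :
    MulAut (Sec M K θ) :=
  QuotientGroup.congr _ _
    ({ toFun := fun x => ⟨α (x : G), (hK x).1 x.2⟩
       invFun := fun x => ⟨α⁻¹ (x : G), by rw [hK, apply_apply_inv]; exact x.2⟩
       left_inv := fun x => Subtype.ext (α.symm_apply_apply (x : G))
       right_inv := fun x => Subtype.ext (apply_apply_inv α (x : G))
       map_mul' := fun a b => Subtype.ext (map_mul α (a : G) b) } : MulAut (K1 M K θ))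
    (by
      ext y
      constructor
      · rintro ⟨z, hz, rfl⟩
        exact (hL z).1 hz
      · intro hy
        refine ⟨⟨α⁻¹ y, by rw [hK, apply_apply_inv]; exact y.2⟩, ?_, Subtype.ext (apply_apply_inv α y)⟩
        show α⁻¹ (y : G) ∈ L
        rw [hL, apply_apply_inv]
        exact hy)

theorem secAut_cls {θ : IrrCharacter L} {α : MulAut G}
    (hK : ∀ x, x ∈ K1 M K θ ↔ α x ∈ K1 M K θ) (hL : ∀ x, x ∈ L ↔ α x ∈ L) {x : G}
    (hx : x ∈ K1 M K θ) : secAut θ α hK hL (cls hx) = cls ((hK x).1 hx) := rfl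

end Setting

namespace Setting

variable [Fintype G] [Fintype S] {φ : S →* MulAut G} {C K L H : Subgroup G}
variable [K.Normal] [L.Normal] [Fintype L] [Fintype H] (hs : Setting M φ C K L H)
variable (θ : IrrCharacter L) (hθ : ∀ s, autA M (φ s) (eL M L θ) = eL M L θ)

include hs hθ in
theorem phi_K1_iff (s : S) (x : G) : x ∈ K1 M K θ ↔ φ s x ∈ K1 M K θ := by
  have h : ∀ (t : S) (y : G), y ∈ K1 M K θ → φ t y ∈ K1 M K θ := fun t y hy =>
    Subgroup.mem_inf.2 ⟨hs.K_inv t y (Subgroup.mem_inf.1 hy).1,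
      hs.autA_fix_stab hθ t (Subgroup.mem_inf.1 hy).2⟩
  refine ⟨h s x, fun hx => ?_⟩
  have := h s⁻¹ _ hx
  rwa [map_inv, show (φ s)⁻¹ (φ s x) = x from (φ s).symm_apply_apply x] at this

/-- The operators on the section. -/
noncomputable def secHom : S →* MulAut (Sec M K θ) :=
  MonoidHom.mk' (fun s => secAut θ (φ s) (hs.phi_K1_iff θ hθ s) (hs.L_inv_iff s)) fun s t =>
    MulEquiv.ext fun v => by
      rw [MulAut.mul_apply, ← cls_rep v, secAut_cls, secAut_cls, secAut_cls]
      congr 1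
      rw [map_mul, MulAut.mul_apply]

theorem secHom_cls (s : S) {x : G} (hx : x ∈ K1 M K θ) :
    secHom hs θ hθ s (cls hx) = cls ((hs.phi_K1_iff θ hθ s x).1 hx) := rfl

theorem secHom_free (v : Sec M K θ) (h : ∀ s, secHom hs θ hθ s v = v) : v = 1 := by
  rw [← cls_rep v]
  refine (QuotientGroup.eq_one_iff _).2 (hs.free _ (Subgroup.mem_inf.1 (rep_mem v)).1 fun s => ?_)
  have h' := h s
  rw [← cls_rep v, secHom_cls, eq_comm, cls_eq] at h'
  exact h'

include hs in
theorem odd_sec : Odd (Nat.card (Sec M K θ)) :=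
  hs.odd.of_dvd_nat ((Subgroup.card_quotient_dvd_card _).trans (Subgroup.card_subgroup_dvd_card _))

include hs in
theorem coprime_sec : (Nat.card S).Coprime (Nat.card (Sec M K θ)) :=
  hs.coprime.symm.coprime_dvd_right
    ((Subgroup.card_quotient_dvd_card _).trans (Subgroup.card_subgroup_dvd_card _))

variable [AbSec K L]

omit [Fintype S] in
/-- An element of the line over a class. -/
theorem eq_smul_w (hM : IsPModular 2 M) (hG : Odd (Nat.card G))
    (W : Weyl (k M) (GA M G) (Sec M K θ)) (hWe : W.e = eL M L θ)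
    (hW : ∀ v, InU L (eL M L θ) (rep v) (W.w v)) {v : Sec M K θ} {z : GA M G}
    (hz : InU L (eL M L θ) (rep v) z) : ∃ a : k M, z = a • W.w v := by
  have h1 : InU L (eL M L θ) 1 (z * W.w v⁻¹) := by
    refine (hz.mul (hW v⁻¹)).congr ?_
    have h := L.mul_mem (rep_one (M := M) (K := K) θ) (rep_mul v v⁻¹)
    simpa [mul_assoc] using h
  obtain ⟨c, hc⟩ := InU.eq_smul_of_one hM hG h1
  refine ⟨c, ?_⟩
  have h2 : (2 : k M) = 0 := two_eq_zero hM
  have h := congrArg (· * W.w v) hc
  simp only [mul_assoc, W.mul_w, inv_mul_cancel, W.w_one, mul_smul_comm, smul_mul_assoc] at h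
  rw [W.σ_inv_left, W.σ_self h2, one_smul, hWe, hz.2.2, ← hWe, W.e_mul] at h
  exact h

variable (M φ) in
/-- An equivariant Weyl system of the twisted group algebra over `θ`. -/
structure Sys (τ : S →* MulAut (Sec M K θ)) where
  W : Weyl (k M) (GA M G) (Sec M K θ)
  e_eq : W.e = eL M L θ
  inU : ∀ v, InU L (eL M L θ) (rep v) (W.w v)
  pres : ∀ s, W.Pres (τ s)
  equiv : ∀ s v, autA M (φ s) (W.w v) = W.w (τ s v)

include hs hθ in
/-- Existence of the system. -/
theorem exists_sys : Nonempty (Sys M φ θ (secHom hs θ hθ)) := by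
  classical
  haveI := isAlgClosed_k' hs.modular
  have h2 : (2 : k M) = 0 := two_eq_zero hs.modular
  set e := eL M L θ with he
  have hunit := fun v : Sec M K θ =>
    exists_unit hs.modular hs.odd (Subgroup.mem_inf.1 (rep_mem v)).2
  choose u u' hu hu' huu hu'u using hunit
  have hee : e * e = e := eL_idem hs.modular hs.odd θ
  have hone : InU L e 1 e := ⟨fun g hg => by
    rw [inv_one, one_mul]; exact mem_of_coeff_incl_ne_zero hg,
    fun l hl => el_mem_stab_eL θ hl, hee⟩
  let w : Sec M K θ → GA M G := fun v => if v = 1 then e else u v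
  let w' : Sec M K θ → GA M G := fun v => if v = 1 then e else u' v
  have hw : ∀ v, InU L e (rep v) (w v) := fun v => by
    simp only [w]
    split_ifs with hv
    · subst hv
      exact hone.congr (by simpa using rep_one (M := M) (K := K) θ)
    · exact hu v
  have hw' : ∀ v, InU L e (rep v)⁻¹ (w' v) := fun v => by
    simp only [w']
    split_ifs with hv
    · subst hv
      exact hone.congr (by simpa using rep_one (M := M) (K := K) θ)
    · exact hu' v
  have hww : ∀ v, w v * w' v = e ∧ w' v * w v = e := fun v => by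
    simp only [w, w']
    split_ifs with hv
    · exact ⟨hee, hee⟩
    · exact ⟨huu v, hu'u v⟩
  have hel : ∀ {x : G} {z : GA M G}, x ∈ stab M e → InU L e x z → e * z = z := by
    intro x z hx hz
    conv_rhs => rw [← hz.2.2]
    conv_lhs => rw [eq_sum_el z]
    conv_rhs => rw [eq_sum_el z]
    rw [Finset.mul_sum, Finset.sum_mul]
    refine Finset.sum_congr rfl fun g _ => ?_
    by_cases hg : z.coeff g = 0
    · simp [hg]
    have hgs : g ∈ stab M e := by
      have := (stab M e).mul_mem hx (el_mem_stab_eL θ (hz.1 g hg))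
      rwa [mul_inv_cancel_left] at this
    rw [mul_smul_comm, smul_mul_assoc, show e * el M g = el M g * e from (Eq.symm hgs)]
  obtain ⟨W₀, hW₀e, hW₀⟩ := exists_weyl (V := Sec M K θ) h2 (eL_ne_zero hs.modular hs.odd θ) w
    (if_pos rfl) (fun v => hel (Subgroup.mem_inf.1 (rep_mem v)).2 (hw v)) (fun v => (hw v).2.2)
    (fun v => ⟨w' v, hww v⟩)
    (fun a b => by
      have h : InU L e (rep (a * b)) (w a * w b) := ((hw a).mul (hw b)).congr (rep_mul a b)
      have hz1 : InU L e 1 (w a * w b * w' (a * b)) := by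
        refine (h.mul (hw' (a * b))).congr ?_
        simp
      obtain ⟨c, hc⟩ := InU.eq_smul_of_one hs.modular hs.odd hz1
      refine ⟨c, ?_⟩
      have h' := congrArg (· * w (a * b)) hc
      simp only [smul_mul_assoc] at h'
      rw [mul_assoc _ (w' (a * b)), (hww (a * b)).2, h.2.2,
        hel (Subgroup.mem_inf.1 (rep_mem (a * b))).2 (hw (a * b))] at h'
      exact h')
  have hW₀U : ∀ v, InU L e (rep v) (W₀.w v) := fun v => by
    obtain ⟨d, hd⟩ := hW₀ v
    rw [hd]; exact (hw v).smul d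
  obtain ⟨W, hWe, hWd, hWp, hWS⟩ := exists_weyl_equivariant
    ((autA M).comp φ) (secHom hs θ hθ) h2 W₀ (hs.coprime_sec θ)
    (fun s => by rw [hW₀e]; exact hθ s)
    (fun s v => eq_smul_w θ hs.modular hs.odd W₀ hW₀e hW₀U <| by
      have h1 := (hW₀U v).map (φ s) (hs.L_inv_iff s) (hθ s)
      refine h1.congr ?_
      conv in (secHom hs θ hθ s v) => rw [← cls_rep v, secHom_cls]
      exact rep_inv_mul ((hs.phi_K1_iff θ hθ s _).1 (rep_mem v)))
  refine ⟨⟨W, hWe.trans hW₀e, fun v => ?_, hWp, hWS⟩⟩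
  obtain ⟨d, hd⟩ := hWd v
  rw [hd]; exact (hW₀U v).smul d

end Setting

end H20.Magic
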