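import Cfsg.Agent.H20.Magic.OddAlgebra
import Cfsg.Agent.H15.Extension
import Mathlib.GroupTheory.SpecificGroups.Cyclic

/-!
# The twisted group algebra over an invariant character of a normal subgroup

For a normal subgroup `L`, a character `θ` of `L` with reduced idempotent `e`, and an element `x`
centralising `e`, the elements of `e k[xL]` commuting with `L` are the multiples of one unit of the
corner.
-/

set_option autoImplicit false
set_option linter.style.haveILetI false
set_option linter.unusedSectionVars false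

open Cfsg MonoidAlgebra
open H12.Glauberman (mult)
open scoped ComplexConjugate

namespace H20.Magic

universe u

variable {M : Ideal AlgInt} [hMp : M.IsPrime] {G : Type u} [Group G]

variable (M) in
/-- The action of the automorphisms of the group on the group algebra. -/
noncomputable def autA : MulAut G →* (GA M G ≃ₐ[k M] GA M G) :=
  MonoidAlgebra.domCongrAut

theorem autA_el (α : MulAut G) (g : G) : autA M α (el M g) = el M (α g) :=
  MonoidAlgebra.domCongr_single α g 1

theorem autA_conj [Fintype G] (g : G) (a : GA M G) :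
    autA M (MulAut.conj g) a = el M g * a * el M g⁻¹ := by
  have h : (autA M (MulAut.conj g)).toLinearMap =
      (LinearMap.mulRight (k M) (el M g⁻¹)).comp (LinearMap.mulLeft (k M) (el M g)) :=
    linearMap_ext fun x => by
      simp only [AlgEquiv.toLinearMap_apply, LinearMap.comp_apply, LinearMap.mulLeft_apply,
        LinearMap.mulRight_apply, autA_el, MulAut.conj_apply, el_mul]
  exact LinearMap.congr_fun h a

theorem coeff_autA (α : MulAut G) (a : GA M G) (x : G) :
    (autA M α a).coeff x = a.coeff (α⁻¹ x) :=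
  MonoidAlgebra.coeff_domCongr α a x

variable (M) in
/-- The centraliser in the group of an element of the algebra. -/
def stab (a : GA M G) : Subgroup G where
  carrier := {g | el M g * a = a * el M g}
  one_mem' := show el M 1 * a = a * el M 1 by rw [el_one, one_mul, mul_one]
  mul_mem' := fun {g h} hg hh => by
    show el M (g * h) * a = a * el M (g * h)
    rw [el_mul, mul_assoc, show el M h * a = a * el M h from hh, ← mul_assoc,
      show el M g * a = a * el M g from hg, mul_assoc]
  inv_mem' := fun {g} hg => by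
    show el M g⁻¹ * a = a * el M g⁻¹
    calc el M g⁻¹ * a = el M g⁻¹ * (a * el M g) * el M g⁻¹ := by
          simp only [mul_assoc, el_mul_inv, mul_one]
      _ = el M g⁻¹ * el M g * a * el M g⁻¹ := by
          rw [show a * el M g = el M g * a from (Eq.symm hg)]; simp only [mul_assoc]
      _ = a * el M g⁻¹ := by rw [el_inv_mul, one_mul]

theorem mem_stab {a : GA M G} {g : G} : g ∈ stab M a ↔ el M g * a = a * el M g := Iff.rfl

theorem mem_stab_iff_conj {a : GA M G} {g : G} :
    g ∈ stab M a ↔ el M g * a * el M g⁻¹ = a := by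
  rw [mem_stab]
  constructor
  · intro h; rw [h, mul_assoc, el_mul_inv, mul_one]
  · intro h
    conv_rhs => rw [← h]
    rw [mul_assoc, el_inv_mul, mul_one]

variable [Fintype G]

theorem incl_injective (N : Subgroup G) : Function.Injective (incl M N) := fun a b h => by
  ext n
  rw [← coeff_incl N a, ← coeff_incl N b, h]

variable (M) in
/-- Restriction of the coefficients to a subgroup. -/
noncomputable def res (N : Subgroup G) [Finite N] : GA M G →ₗ[k M] GA M N where
  toFun a := ofFun fun n => a.coeff n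
  map_add' a b := by ext n; simp
  map_smul' c a := by ext n; simp

theorem coeff_res (N : Subgroup G) [Finite N] (a : GA M G) (n : N) :
    (res M N a).coeff n = a.coeff n := coeff_ofFun _ _

theorem res_incl (N : Subgroup G) [Finite N] (a : GA M N) : res M N (incl M N a) = a := by
  ext n; rw [coeff_res, coeff_incl]

theorem incl_res (N : Subgroup G) [Finite N] {a : GA M G}
    (ha : ∀ g, a.coeff g ≠ 0 → g ∈ N) : incl M N (res M N a) = a := by
  ext g
  by_cases hg : g ∈ N
  · exact (coeff_incl N _ ⟨g, hg⟩).trans (coeff_res N a ⟨g, hg⟩)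
  · rw [coeff_incl_notMem N _ hg]
    by_contra h
    exact hg (ha g (Ne.symm h))

theorem exists_of_coeff_mul_ne_zero {a b : GA M G} {g : G}
    (h : (a * b).coeff g ≠ 0) : ∃ x, a.coeff x ≠ 0 ∧ b.coeff (x⁻¹ * g) ≠ 0 := by
  rw [coeff_mul_group] at h
  obtain ⟨x, -, hx⟩ := Finset.exists_ne_zero_of_sum_ne_zero h
  exact ⟨x, left_ne_zero_of_mul hx, right_ne_zero_of_mul hx⟩

theorem mem_of_coeff_incl_ne_zero {N : Subgroup G} {a : GA M N} {g : G}
    (h : (incl M N a).coeff g ≠ 0) : g ∈ N := by
  by_contra hg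
  exact h (coeff_incl_notMem N a hg)

section Twisted

variable (L : Subgroup G) [hLn : L.Normal] [Fintype L]

theorem cid_injective (hM : IsPModular 2 M) {X : Type u} [Group X] [Fintype X]
    (hX : Odd (Nat.card X)) : Function.Injective (cid M : IrrCharacter X → GA M X) := by
  intro a b h
  classical
  by_contra hne
  have h1 := cid_mul_cid hM hX a b
  rw [if_neg hne, ← h, cid_idem hM hX] at h1
  exact cid_ne_zero hM hX a h1

variable (M) in
/-- The reduced idempotent of a character of `L` in the group algebra of `G`. -/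
noncomputable def eL (θ : IrrCharacter L) : GA M G := incl M L (cid M θ)

theorem conj_eL (g : G) (θ : IrrCharacter L) :
    el M g * eL M L θ * el M g⁻¹ = eL M L (H13.twistIrr L g⁻¹ θ) := by
  ext x
  rw [← autA_conj, coeff_autA]
  have hx : (MulAut.conj g)⁻¹ x = g⁻¹ * x * g := by
    rw [← map_inv, MulAut.conj_apply, inv_inv]
  rw [hx]
  by_cases h : x ∈ L
  · have h' : g⁻¹ * x * g ∈ L := by simpa using hLn.conj_mem x h g⁻¹
    have e1 := coeff_incl L (cid M θ) ⟨g⁻¹ * x * g, h'⟩
    have e2 := coeff_incl L (cid M (H13.twistIrr L g⁻¹ θ)) ⟨x, h⟩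
    rw [show (eL M L θ).coeff (g⁻¹ * x * g) = _ from e1,
      show (eL M L (H13.twistIrr L g⁻¹ θ)).coeff x = _ from e2, coeff_cid, coeff_cid,
      H13.twistIrr_apply, H13.twist_apply]
    congr 1
    refine congrArg (θ : L → ℂ) (Subtype.ext ?_)
    simp [mul_assoc]
  · rw [eL, eL, coeff_incl_notMem L _ h, coeff_incl_notMem L]
    intro h'
    exact h (by simpa [mul_assoc] using hLn.conj_mem _ h' g)

variable {L} (hM : IsPModular 2 M) (hG : Odd (Nat.card G))

include hM hG in
theorem odd_card_L : Odd (Nat.card L) := hG.of_dvd_nat (Subgroup.card_subgroup_dvd_card L)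

include hM hG in
theorem eL_idem (θ : IrrCharacter L) : eL M L θ * eL M L θ = eL M L θ := by
  rw [eL, ← map_mul, cid_idem hM (odd_card_L hM hG)]

include hM hG in
theorem eL_ne_zero (θ : IrrCharacter L) : eL M L θ ≠ 0 := fun h =>
  cid_ne_zero hM (odd_card_L hM hG) θ (incl_injective L (h.trans (map_zero _).symm))

theorem el_mem_stab_eL (θ : IrrCharacter L) {l : G} (hl : l ∈ L) : l ∈ stab M (eL M L θ) := by
  rw [mem_stab, show el M l = incl M L (el M ⟨l, hl⟩) from (incl_el L ⟨l, hl⟩).symm, eL,
    ← map_mul, ← map_mul, cid_comm]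

include hM hG in
theorem twist_eq_of_stab {θ : IrrCharacter L} {g : G} (hg : g ∈ stab M (eL M L θ)) :
    H13.twistIrr L g θ = θ := by
  have h : el M g⁻¹ * eL M L θ * el M g⁻¹⁻¹ = eL M L θ :=
    mem_stab_iff_conj.1 ((stab M _).inv_mem hg)
  rw [conj_eL, inv_inv] at h
  exact cid_injective hM (odd_card_L hM hG) (incl_injective L h)

include hM hG in
theorem conj_eL_mul_eq_zero {θ θ' : IrrCharacter L} (h : eL M L θ ≠ eL M L θ') :
    eL M L θ * eL M L θ' = 0 := by
  classical
  rw [eL, eL, ← map_mul, cid_mul_cid hM (odd_card_L hM hG), if_neg (fun h' => h (by rw [h'])),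
    map_zero]

include hM hG in
theorem eL_el_eL_eq_zero {θ : IrrCharacter L} {g : G} (hg : g ∉ stab M (eL M L θ)) :
    eL M L θ * el M g * eL M L θ = 0 := by
  have h := conj_eL_mul_eq_zero hM hG (θ := θ) (θ' := H13.twistIrr L g⁻¹ θ) (fun h =>
    hg (mem_stab_iff_conj.2 ((conj_eL L g θ).trans h.symm)))
  rw [← conj_eL] at h
  have h' := congrArg (· * el M g) h
  simp only [zero_mul] at h'
  rw [← h']
  simp only [mul_assoc, el_inv_mul, mul_one]

/-- The space of the coset `x L` in the twisted group algebra. -/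
def InU (L : Subgroup G) (e : GA M G) (x : G) (z : GA M G) : Prop :=
  (∀ g, z.coeff g ≠ 0 → x⁻¹ * g ∈ L) ∧ (∀ l ∈ L, el M l * z = z * el M l) ∧ z * e = z

theorem InU.smul {L : Subgroup G} {e : GA M G} {x : G} {z : GA M G} (h : InU L e x z) (c : k M) :
    InU L e x (c • z) :=
  ⟨fun g hg => h.1 g fun h0 => hg (by simp [h0]),
    fun l hl => by rw [mul_smul_comm, smul_mul_assoc, h.2.1 l hl],
    by rw [smul_mul_assoc, h.2.2]⟩

theorem InU.congr {L : Subgroup G} {e : GA M G} {x y : G} {z : GA M G} (h : InU L e x z)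
    (hxy : y⁻¹ * x ∈ L) : InU L e y z :=
  ⟨fun g hg => by simpa [mul_assoc] using L.mul_mem hxy (h.1 g hg), h.2⟩

theorem InU.mul {e : GA M G} {x y : G} {z z' : GA M G} (h : InU L e x z) (h' : InU L e y z') :
    InU L e (x * y) (z * z') := by
  refine ⟨fun g hg => ?_, fun l hl => ?_, by rw [mul_assoc, h'.2.2]⟩
  · obtain ⟨a, ha, hb⟩ := exists_of_coeff_mul_ne_zero hg
    have h1 : y⁻¹ * (x⁻¹ * a) * y ∈ L := by simpa using hLn.conj_mem _ (h.1 a ha) y⁻¹
    have h2 := L.mul_mem h1 (h'.1 _ hb)
    convert h2 using 1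
    group
  · rw [← mul_assoc, h.2.1 l hl, mul_assoc, h'.2.1 l hl, mul_assoc]

theorem InU.map {e : GA M G} {x : G} {z : GA M G} (h : InU L e x z) (α : MulAut G)
    (hαL : ∀ g, g ∈ L ↔ α g ∈ L) (hαe : autA M α e = e) :
    InU L e (α x) (autA M α z) := by
  refine ⟨fun g hg => ?_, fun l hl => ?_, ?_⟩
  · rw [coeff_autA] at hg
    have := (hαL _).1 (h.1 _ hg)
    rwa [map_mul, map_inv, show α (α⁻¹ g) = g from α.apply_symm_apply g] at this
  · have hl' : α⁻¹ l ∈ L := by
      rw [hαL, show α (α⁻¹ l) = l from α.apply_symm_apply l]; exact hl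
    have := congrArg (autA M α) (h.2.1 _ hl')
    rwa [map_mul, map_mul, autA_el, show α (α⁻¹ l) = l from α.apply_symm_apply l] at this
  · rw [← hαe, ← map_mul, h.2.2]

include hM hG in
theorem InU.eq_smul_of_one {θ : IrrCharacter L} {z : GA M G} (h : InU L (eL M L θ) 1 z) :
    ∃ c : k M, z = c • eL M L θ := by
  have hz : incl M L (res M L z) = z := incl_res L fun g hg => by simpa using h.1 g hg
  have hc : ∀ l : L, el M l * res M L z = res M L z * el M l := fun l => incl_injective L (by
    rw [map_mul, map_mul, incl_el, hz, h.2.1 _ l.2])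
  refine ⟨tr M θ (res M L z), ?_⟩
  calc z = incl M L (res M L z) * eL M L θ := by rw [hz, h.2.2]
    _ = _ := by rw [eL, ← map_mul, central_mul_cid hM (odd_card_L hM hG) hc, map_smul]

/-- On each coset of a normal subgroup the square norm of an extension is the order of the
subgroup. -/
theorem sum_coset_norm {J : Type u} [Group J] [Fintype J] (N : Subgroup J) [N.Normal]
    [Fintype (J ⧸ N)] [DecidableEq (J ⧸ N)] {η : J → ℂ} (hη : IsCharacter J η)
    (hres : IsIrrCharacter N (fun n : N => η n)) (q : J ⧸ N) :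
    ∑ g ∈ Finset.univ.filter (fun g : J => QuotientGroup.mk' N g = q), η g * conj (η g) =
      (Nat.card N : ℂ) := by
  classical
  have hcl := H12.IsCharacter.isClassFunction hη
  let f : J ⧸ N → ℂ := fun q =>
    (∑ g ∈ Finset.univ.filter (fun g : J => QuotientGroup.mk' N g = q), η g * conj (η g)) -
      (Nat.card N : ℂ)
  have hf : IsClassFunction (J ⧸ N) f := fun a b => by
    obtain ⟨y, rfl⟩ := QuotientGroup.mk'_surjective N b
    simp only [f, sub_left_inj]
    refine Finset.sum_equiv (MulAut.conj y⁻¹).toEquiv (fun g => ?_) fun g _ => ?_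
    · simp only [Finset.mem_filter, Finset.mem_univ, true_and, MulEquiv.toEquiv_eq_coe,
        EquivLike.coe_coe, MulAut.conj_apply]
      rw [inv_inv, map_mul, map_mul, map_inv]
      constructor
      · intro h; rw [h]; group
      · intro h; rw [← h]; group
    · simp only [MulEquiv.toEquiv_eq_coe, EquivLike.coe_coe, MulAut.conj_apply, hcl g y⁻¹]
  have hcard : ∀ q : J ⧸ N,
      (Finset.univ.filter (fun g : J => QuotientGroup.mk' N g = q)).card = Nat.card N := by
    intro q
    obtain ⟨y, rfl⟩ := QuotientGroup.mk'_surjective N q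
    rw [← Nat.card_eq_finsetCard]
    refine Nat.card_congr ((Equiv.mulLeft y⁻¹).subtypeEquiv fun g => ?_)
    simp [eq_comm, ← QuotientGroup.eq]
  have hz := H12.eq_zero_of_sum_mul_irr_eq_zero hf fun β => by
    have h := H13.gallagher_orthonormal N hη hres β (H12.oneIrr (J ⧸ N))
    simp only [classInner] at h
    have h' := mul_left_cancel₀ (inv_ne_zero H12.card_ne_zero') h
    simp only [Pi.mul_apply, map_mul] at h'
    simp only [f, sub_mul, Finset.sum_sub_distrib, Finset.sum_mul]
    rw [sub_eq_zero]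
    calc ∑ q : J ⧸ N, ∑ g ∈ Finset.univ.filter (fun g : J => QuotientGroup.mk' N g = q),
          η g * conj (η g) * (β : J ⧸ N → ℂ) q
        = ∑ g : J, η g * conj (η g) * (β : J ⧸ N → ℂ) (QuotientGroup.mk' N g) := by
          rw [← Finset.sum_fiberwise Finset.univ (QuotientGroup.mk' N)]
          exact Finset.sum_congr rfl fun q _ => Finset.sum_congr rfl fun g hg => by
            rw [(Finset.mem_filter.1 hg).2]
      _ = ∑ g : J, (β : J ⧸ N → ℂ) (QuotientGroup.mk' N g) := by
          refine (Finset.sum_congr rfl fun g _ => ?_).trans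
            (h'.trans (Finset.sum_congr rfl fun g _ => ?_))
          · show _ = _ * η g * (conj (1 : ℂ) * conj (η g))
            simp only [map_one, one_mul]
            show _ = (β : J ⧸ N → ℂ) (QuotientGroup.mk' N g) * η g * conj (η g)
            ring
          · show (β : J ⧸ N → ℂ) (QuotientGroup.mk' N g) * conj (1 : ℂ) = _
            rw [map_one, mul_one]
      _ = ∑ q : J ⧸ N, (Nat.card N : ℂ) * (β : J ⧸ N → ℂ) q := by
          rw [← Finset.sum_fiberwise Finset.univ (QuotientGroup.mk' N)]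
          refine Finset.sum_congr rfl fun q _ => ?_
          rw [Finset.sum_congr rfl fun g hg => by rw [(Finset.mem_filter.1 hg).2],
            Finset.sum_const, hcard, nsmul_eq_mul]
  exact sub_eq_zero.1 (congrFun hz q)

open scoped Classical in
/-- The part of an element on a coset. -/
noncomputable def comp {J : Type u} [Group J] [Fintype J] (N : Subgroup J) [N.Normal]
    (q : J ⧸ N) (a : GA M J) : GA M J :=
  ofFun fun g => if QuotientGroup.mk' N g = q then a.coeff g else 0

include hM hG in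
/-- A unit of the twisted group algebra in every coset of the inertia group. -/
theorem exists_unit {θ : IrrCharacter L} {x : G} (hx : x ∈ stab M (eL M L θ)) :
    ∃ u u', InU L (eL M L θ) x u ∧ InU L (eL M L θ) x⁻¹ u' ∧
      u * u' = eL M L θ ∧ u' * u = eL M L θ := by
  classical
  let J : Subgroup G := L ⊔ Subgroup.zpowers x
  have hLJ : L ≤ J := le_sup_left
  have hxJ : x ∈ J := Subgroup.mem_sup_right (Subgroup.mem_zpowers x)
  have hJs : J ≤ stab M (eL M L θ) :=
    sup_le (fun l hl => el_mem_stab_eL θ hl) ((Subgroup.zpowers_le).2 hx)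
  have hJ : Odd (Nat.card J) := hG.of_dvd_nat (Subgroup.card_subgroup_dvd_card J)
  let N : Subgroup J := L.subgroupOf J
  haveI : N.Normal := Subgroup.normal_subgroupOf
  let ι : N ≃* L := Subgroup.subgroupOfEquivOfLe hLJ
  let θ' : IrrCharacter N := ⟨fun n => (θ : L → ℂ) (ι n),
    H12.IsIrrCharacter.comp_surjective θ.2 (f := ι.toMonoidHom) ι.surjective⟩
  obtain ⟨n, ρ, hρ, hρθ⟩ := θ'.2
  haveI := hρ
  have hcyc : IsCyclic (J ⧸ N) := by
    refine ⟨⟨QuotientGroup.mk' N ⟨x, hxJ⟩, fun q => ?_⟩⟩
    obtain ⟨⟨g, hg⟩, rfl⟩ := QuotientGroup.mk'_surjective N q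
    obtain ⟨l, hl, y, hy, hly⟩ := Subgroup.mem_sup_of_normal_left.1 hg
    obtain ⟨i, rfl⟩ := Subgroup.mem_zpowers_iff.1 hy
    refine Subgroup.mem_zpowers_iff.2 ⟨i, ?_⟩
    rw [← map_zpow]
    refine (QuotientGroup.eq (s := N)).2 ?_
    show (((⟨x, hxJ⟩ : J) ^ i)⁻¹ * ⟨g, hg⟩ : J).1 ∈ L
    simp only [Subgroup.coe_mul, Subgroup.coe_inv, Subgroup.coe_zpow, ← hly, ← mul_assoc]
    simpa using hLn.conj_mem l hl (x ^ i)⁻¹
  have hinv : ∀ (g : J) (r : N), ρ.character (MulAut.conjNormal g r) = ρ.character r := by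
    intro g r
    rw [hρθ]
    show (θ : L → ℂ) (ι (MulAut.conjNormal g r)) = (θ : L → ℂ) (ι r)
    have h := congrArg (fun φ : IrrCharacter L => (φ : L → ℂ) (ι r))
      (twist_eq_of_stab hM hG (hJs g.2))
    simp only [H13.twistIrr_apply] at h
    rw [← h]
    congr 1
  obtain ⟨η, hη, hηr⟩ := H15.extends_of_cyclic hinv hcyc
  rw [hρθ] at hηr
  let ψ : IrrCharacter J := ⟨η, hη⟩
  have hψ : (tr M ψ).comp (incl M N).toLinearMap = tr M θ' := linearMap_ext fun n => by
    rw [LinearMap.comp_apply, AlgHom.toLinearMap_apply, incl_el, tr_el, tr_el]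
    congr 1
    exact hηr n
  let eJ : GA M J := incl M N (cid M θ')
  have heJ : incl M J eJ = eL M L θ := by
    ext g
    by_cases hg : g ∈ L
    · have e1 : (incl M J eJ).coeff g = eJ.coeff ⟨g, hLJ hg⟩ := coeff_incl J eJ ⟨g, hLJ hg⟩
      have e2 : eJ.coeff ⟨g, hLJ hg⟩ = (cid M θ').coeff ⟨⟨g, hLJ hg⟩, hg⟩ :=
        coeff_incl N (cid M θ') ⟨⟨g, hLJ hg⟩, hg⟩
      have e3 : (eL M L θ).coeff g = (cid M θ).coeff ⟨g, hg⟩ := coeff_incl L (cid M θ) ⟨g, hg⟩
      rw [e1, e2, e3, coeff_cid, coeff_cid]
      rfl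
    · rw [eL, coeff_incl_notMem L _ hg]
      by_cases hg' : g ∈ J
      · exact (coeff_incl J eJ ⟨g, hg'⟩).trans (coeff_incl_notMem N _ hg)
      · exact coeff_incl_notMem J _ hg'
  have heJc : ∀ g : J, el M g * eJ = eJ * el M g := fun g => incl_injective J (by
    rw [map_mul, map_mul, incl_el, heJ]
    exact hJs g.2)
  have hψe : cid M ψ * eJ = cid M ψ := by
    have h1 : tr M ψ eJ = 1 := by
      have := LinearMap.congr_fun hψ (cid M θ')
      rw [LinearMap.comp_apply, AlgHom.toLinearMap_apply] at this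
      rw [this, tr_cid hM (hJ.of_dvd_nat (Subgroup.card_subgroup_dvd_card N)), if_pos rfl]
    rw [cid_comm, central_mul_cid hM hJ heJc, h1, one_smul]
  have hresirr : IsIrrCharacter N fun n : N => η n := by
    rw [show (fun n : N => η n) = (θ' : N → ℂ) from funext hηr]
    exact θ'.2
  haveI : IsMulCommutative (J ⧸ N) := IsCyclic.isMulCommutative
  have hab : ∀ a b : J ⧸ N, a * b = b * a := fun a b => mul_comm' a b
  have hcentral : ∀ (q : J ⧸ N) (g : J),
      el M g * comp (M := M) N q (cid M ψ) = comp (M := M) N q (cid M ψ) * el M g := by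
    intro q g
    refine ((IsCl.commute (fun a b => ?_) (el M g)).eq).symm
    simp only [comp, coeff_ofFun]
    rw [show QuotientGroup.mk' N (b * a * b⁻¹) = QuotientGroup.mk' N a by
      rw [map_mul, map_mul, hab (QuotientGroup.mk' N b), mul_assoc, ← map_mul,
        mul_inv_cancel, map_one, mul_one], isCl_cid ψ a b]
  have hmulE : ∀ q : J ⧸ N, comp (M := M) N q (cid M ψ) * eJ = comp (M := M) N q (cid M ψ) := by
    intro q
    conv_rhs => rw [← hψe]
    ext g
    simp only [comp, coeff_ofFun, coeff_mul_group]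
    have hz : ∀ y : J, eJ.coeff (y⁻¹ * g) ≠ 0 → QuotientGroup.mk' N y = QuotientGroup.mk' N g :=
      fun y hy => (QuotientGroup.eq (s := N)).2 (mem_of_coeff_incl_ne_zero hy)
    by_cases hg : QuotientGroup.mk' N g = q
    · rw [if_pos hg]
      refine Finset.sum_congr rfl fun y _ => ?_
      by_cases hy : eJ.coeff (y⁻¹ * g) = 0
      · rw [hy, mul_zero, mul_zero]
      · rw [if_pos ((hz y hy).trans hg)]
    · rw [if_neg hg]
      refine Finset.sum_eq_zero fun y _ => ?_
      by_cases hy : eJ.coeff (y⁻¹ * g) = 0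
      · rw [hy, mul_zero]
      · rw [if_neg fun h => hg ((hz y hy).symm.trans h), zero_mul]
  have htr : ∀ q : J ⧸ N, tr M ψ (comp (M := M) N q (cid M ψ)) = 1 := by
    intro q
    rw [tr_apply]
    simp only [comp, coeff_ofFun, coeff_cid, ite_mul, zero_mul, ← Finset.sum_filter]
    rw [Finset.sum_congr rfl fun g _ => (redC_mul (memRing_irr ψ g⁻¹) (memRing_irr ψ g)).symm,
      ← redC_sum _ _ fun g _ => memRing_mul (memRing_irr ψ _) (memRing_irr ψ _),
      Finset.sum_congr rfl fun g _ => show (ψ : J → ℂ) g⁻¹ * (ψ : J → ℂ) g = η g * conj (η g) by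
        rw [H12.irr_inv]; exact mul_comm _ _,
      sum_coset_norm N (H12.isCharacter_irr ψ) hresirr q, redC_natCast]
    exact subgroup_card_eq_one hM hJ N
  -- transport to `G`
  let U : J ⧸ N → GA M G := fun q => incl M J (comp (M := M) N q (cid M ψ))
  have hU : ∀ (y : J), InU L (eL M L θ) (y : G) (U (QuotientGroup.mk' N y)) := by
    intro y
    refine ⟨fun g hg => ?_, fun l hl => ?_, ?_⟩
    · have hgJ := mem_of_coeff_incl_ne_zero hg
      have hg' : (comp (M := M) N (QuotientGroup.mk' N y) (cid M ψ)).coeff ⟨g, hgJ⟩ ≠ 0 := by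
        rw [← coeff_incl J (comp (M := M) N _ (cid M ψ)) ⟨g, hgJ⟩]; exact hg
      simp only [comp, coeff_ofFun, ne_eq, ite_eq_right_iff, not_forall] at hg'
      exact (QuotientGroup.eq (s := N)).1 hg'.1.symm
    · show el M l * incl M J _ = incl M J _ * el M l
      rw [show el M l = incl M J (el M ⟨l, hLJ hl⟩) from (incl_el J ⟨l, hLJ hl⟩).symm, ← map_mul,
        ← map_mul, hcentral]
    · show incl M J _ * eL M L θ = incl M J _
      rw [← heJ, ← map_mul, hmulE]
  have hone : ∀ y : J, U (QuotientGroup.mk' N y) * U (QuotientGroup.mk' N y⁻¹) = eL M L θ := by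
    intro y
    have hm := (hU y).mul (hU y⁻¹)
    have hm1 : InU L (eL M L θ) 1
        (U (QuotientGroup.mk' N y) * U (QuotientGroup.mk' N y⁻¹)) := by
      refine hm.congr ?_
      simp
    obtain ⟨c, hc⟩ := InU.eq_smul_of_one hM hG hm1
    set z := comp (M := M) N (QuotientGroup.mk' N y) (cid M ψ) with hz
    set z' := comp (M := M) N (QuotientGroup.mk' N y⁻¹) (cid M ψ) with hz'
    have hzz : z * z' = c • eJ := incl_injective J (by rw [map_mul, map_smul, heJ]; exact hc)
    have h1 : tr M ψ (z * z' * cid M ψ) = tr M ψ ((c • eJ) * cid M ψ) := by rw [hzz]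
    rw [mul_assoc z, central_mul_cid hM hJ (hcentral _), mul_smul_comm,
      central_mul_cid hM hJ (hcentral _), htr, htr, one_smul, one_smul, smul_mul_assoc,
      ← cid_comm ψ eJ, hψe, map_smul, tr_cid hM hJ, if_pos rfl, smul_eq_mul, mul_one] at h1
    rw [hc, ← h1, one_smul]
  refine ⟨U (QuotientGroup.mk' N ⟨x, hxJ⟩), U (QuotientGroup.mk' N ⟨x, hxJ⟩⁻¹),
    hU ⟨x, hxJ⟩, hU ⟨x, hxJ⟩⁻¹, hone _, ?_⟩
  simpa using hone ⟨x, hxJ⟩⁻¹

end Twisted

end H20.Magic
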